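import Cfsg.Agent.Lib.OrbitPower.Basic
import Cfsg.Agent.Lib.KegelWielandt.Main

/-!
The quaternion case: a perfect group cannot act coprimely with 2-power orbits when its Sylow
2-subgroup contains `c` of index 2 and order divisible by 4 inverted by some `j`.
-/

set_option autoImplicit false
set_option linter.unusedSectionVars false
set_option linter.style.haveILetI false

namespace Cfsg.Agent.Lib.OrbitPower.Quaternion

open Subgroup MulAction
open Cfsg.Agent.Lib.OrbitPower.Basic
open scoped Pointwise

/-- The action as additive endomorphisms. -/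
def toEnd (H V : Type*) [Group H] [CommGroup V] [MulDistribMulAction H V] :
    H →* AddMonoid.End (Additive V) where
  toFun h := MonoidHom.toAdditive (MulDistribMulAction.toMonoidHom V h)
  map_one' := AddMonoidHom.ext fun v => congrArg Additive.ofMul (one_smul H v.toMul)
  map_mul' a b := AddMonoidHom.ext fun v => congrArg Additive.ofMul (mul_smul a b v.toMul)

theorem toEnd_apply {H V : Type*} [Group H] [CommGroup V] [MulDistribMulAction H V] (h : H)
    (v : Additive V) : toEnd H V h v = Additive.ofMul (h • v.toMul) := rfl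

variable {H V : Type*} [Group H] [Finite H] [CommGroup V] [Finite V] [MulDistribMulAction H V]

theorem toEnd_injective [FaithfulSMul H V] : Function.Injective (toEnd H V) := fun a b e =>
  eq_of_smul_eq_smul fun v : V => congrArg Additive.toMul (DFunLike.congr_fun e (Additive.ofMul v))

theorem card_le_sq [FaithfulSMul H V] {q : ℕ} [Fact q.Prime] (hexp : ∀ v : V, v ^ q = 1) {c j : H}
    {k : ℕ} (hk : 2 ≤ k) (hc : orderOf c = 2 ^ k) (hj : j * c * j⁻¹ = c⁻¹) (hq : q ≠ 2)
    (hirr : ∀ W : Subgroup V, (∀ w ∈ W, c • w ∈ W) → W = ⊥ ∨ W = ⊤) :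
    Nat.card V ≤ q ^ 2 := by
  classical
  have hqp : q.Prime := Fact.out
  rcases subsingleton_or_nontrivial V with hV | hV
  · rw [Nat.card_of_subsingleton (1 : V)]; exact Nat.one_le_pow _ _ hqp.pos
  let φ := toEnd H V
  haveI : Finite (AddMonoid.End (Additive V)) :=
    Finite.of_injective (fun f => (f : Additive V → Additive V)) DFunLike.coe_injective
  let R := Subring.closure ({φ c} : Set (AddMonoid.End (Additive V)))
  letI : CommRing R := Subring.closureCommRingOfComm (fun x hx y hy => by
    rw [Set.mem_singleton_iff] at hx hy; subst hx; subst hy; rfl)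
  have hcR : φ c ∈ R := Subring.subset_closure rfl
  have hcomm : ∀ r : R, (r : AddMonoid.End (Additive V)) * φ c = φ c * r := fun r =>
    congrArg Subtype.val (mul_comm r ⟨φ c, hcR⟩)
  have hinj : ∀ r : R, r ≠ 0 → ∀ v, (r : AddMonoid.End (Additive V)) v = 0 → v = 0 := by
    intro r hr
    let W : Subgroup V :=
      { carrier := {v | (r : AddMonoid.End (Additive V)) (Additive.ofMul v) = 0}
        one_mem' := map_zero _
        mul_mem' := fun {a b} ha hb => by
          simp only [Set.mem_setOf_eq] at ha hb ⊢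
          rw [ofMul_mul, map_add, ha, hb, add_zero]
        inv_mem' := fun {a} ha => by
          simp only [Set.mem_setOf_eq] at ha ⊢
          rw [ofMul_inv, map_neg, ha, neg_zero] }
    rcases hirr W (fun w hw => by
      change (r : AddMonoid.End (Additive V)) (Additive.ofMul (c • w)) = 0
      have := DFunLike.congr_fun (hcomm r) (Additive.ofMul w)
      replace this : (r : AddMonoid.End (Additive V)) (Additive.ofMul (c • w)) =
        φ c ((r : AddMonoid.End (Additive V)) (Additive.ofMul w)) := this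
      rw [this, show (r : AddMonoid.End (Additive V)) (Additive.ofMul w) = 0 from hw, map_zero]) with e | e
    · intro v hv
      have : v.toMul ∈ W := hv
      rw [e, mem_bot] at this
      exact congrArg Additive.ofMul this
    · exact absurd (Subtype.ext (AddMonoidHom.ext fun v => (show v.toMul ∈ W from e ▸ mem_top _))) hr
  haveI : Nontrivial R := by
    obtain ⟨v, hv⟩ := exists_ne (1 : V)
    refine ⟨⟨0, 1, fun e => hv ?_⟩⟩
    exact congrArg Additive.toMul
      (DFunLike.congr_fun (congrArg Subtype.val e) (Additive.ofMul v)).symm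
  haveI : NoZeroDivisors R := ⟨fun {a b} hab => by
    by_contra h
    push Not at h
    refine h.2 (Subtype.ext (AddMonoidHom.ext fun v => hinj a h.1 _ ?_))
    exact DFunLike.congr_fun (congrArg Subtype.val hab) v⟩
  haveI : IsDomain R := NoZeroDivisors.to_isDomain R
  letI : Field R := (Finite.isDomain_to_isField R).toField
  haveI : CharP R q := (CharP.charP_iff_prime_eq_zero hqp).mpr (Subtype.ext (AddMonoidHom.ext fun v => by
    change ((q : R) : AddMonoid.End (Additive V)) v = 0
    rw [SubringClass.coe_natCast, AddMonoid.End.natCast_apply, ← ofMul_toMul v, ← ofMul_pow, hexp, ofMul_one]))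
  letI : Algebra (ZMod q) R := ZMod.algebra R q
  -- conjugation by `j`
  let ju : (AddMonoid.End (Additive V))ˣ := Units.map φ (toUnits j)
  have hRinv : φ c⁻¹ ∈ R := by
    obtain ⟨n, hn⟩ := mem_powers_iff_mem_zpowers.mpr (inv_mem (mem_zpowers c))
    rw [← hn, map_pow]
    exact pow_mem hcR n
  have hstep : ∀ r ∈ R, (ju : AddMonoid.End (Additive V)) * r * ↑ju⁻¹ ∈ R := by
    intro r hr
    induction hr using Subring.closure_induction with
    | mem x hx =>
      rw [Set.mem_singleton_iff] at hx
      subst hx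
      change φ j * φ c * φ j⁻¹ ∈ R
      rw [← map_mul, ← map_mul, hj]
      exact hRinv
    | zero => rw [mul_zero, zero_mul]; exact zero_mem R
    | one => rw [mul_one, Units.mul_inv]; exact one_mem R
    | add x y _ _ hx hy => rw [mul_add, add_mul]; exact add_mem hx hy
    | neg x _ hx =>
      have h : (ju : AddMonoid.End (Additive V)) * -x * ↑ju⁻¹ = -(↑ju * x * ↑ju⁻¹) :=
        AddMonoidHom.ext fun v => by
          change φ j (-(x ((↑ju⁻¹ : AddMonoid.End (Additive V)) v))) = -(φ j (x ((↑ju⁻¹ : AddMonoid.End (Additive V)) v)))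
          exact map_neg _ _
      rw [h]; exact neg_mem hx
    | mul x y _ _ hx hy =>
      rw [show (ju : AddMonoid.End (Additive V)) * (x * y) * ↑ju⁻¹ = (ju * x * ↑ju⁻¹) * (ju * y * ↑ju⁻¹) by
        simp only [mul_assoc, Units.inv_mul_cancel_left]]
      exact mul_mem hx hy
  let σ0 : R →+* R :=
    { toFun := fun r => ⟨_, hstep r r.2⟩
      map_one' := Subtype.ext (by simp)
      map_mul' := fun x y => Subtype.ext (by simp [mul_assoc])
      map_zero' := Subtype.ext (by simp)
      map_add' := fun x y => Subtype.ext (by simp [mul_add, add_mul]) }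
  let σ : R ≃ₐ[ZMod q] R := AlgEquiv.ofBijective
    { σ0 with commutes' := fun a => RingHom.congr_fun (Subsingleton.elim (σ0.comp (algebraMap (ZMod q) R)) (algebraMap (ZMod q) R)) a }
    (Finite.injective_iff_bijective.mp σ0.injective)
  obtain ⟨⟨i, _⟩, hi⟩ := (FiniteField.bijective_frobeniusAlgEquivOfAlgebraic_pow (ZMod q) R).2 σ
  have hci : c ^ (q ^ i) = c⁻¹ := by
    apply toEnd_injective (V := V)
    have h1 := AlgEquiv.congr_fun hi ⟨φ c, hcR⟩
    rw [AlgEquiv.coe_pow, FiniteField.coe_frobeniusAlgEquivOfAlgebraic_iterate, ZMod.card] at h1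
    have h2 := congrArg Subtype.val h1
    change (φ c) ^ (q ^ i) = φ j * φ c * φ j⁻¹ at h2
    rw [← map_pow, ← map_mul, ← map_mul, hj] at h2
    exact h2
  have hdvd : 2 ^ k ∣ q ^ i + 1 := by
    rw [← hc]
    exact orderOf_dvd_of_pow_eq_one (by rw [pow_succ, hci, inv_mul_cancel])
  have hqodd : q % 2 = 1 := (hqp.eq_two_or_odd).resolve_left hq
  have hiodd : Odd i := by
    by_contra he
    obtain ⟨t, ht⟩ := Nat.not_odd_iff_even.mp he
    have h4 : 4 ∣ q ^ i + 1 := (pow_dvd_pow 2 hk).trans hdvd
    have h1 : q ^ i % 4 = 1 := by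
      rw [ht, ← two_mul, pow_mul, Nat.pow_mod]
      have : q ^ 2 % 4 = 1 := by
        rw [Nat.pow_mod]
        rcases (show q % 4 = 1 ∨ q % 4 = 3 by omega) with e | e <;> rw [e]
      rw [this, one_pow]
      rfl
    omega
  have hsq : c ^ (q ^ 2) = c := by
    have hcop : q.Coprime (2 ^ k) := Nat.Coprime.pow_right _ ((Nat.coprime_primes hqp Nat.prime_two).mpr hq)
    haveI : NeZero (2 ^ k) := ⟨by positivity⟩
    let x : (ZMod (2 ^ k))ˣ := ZMod.unitOfCoprime q hcop
    have hx : (x ^ 2) ^ i = 1 := by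
      apply Units.ext
      have h1 : ((q : ZMod (2 ^ k))) ^ i = -1 := by
        rw [eq_neg_iff_add_eq_zero, ← Nat.cast_pow]
        exact_mod_cast (ZMod.natCast_eq_zero_iff _ _).mpr hdvd
      rw [← pow_mul, mul_comm, pow_mul, Units.val_pow_eq_pow_val, Units.val_pow_eq_pow_val,
        ZMod.coe_unitOfCoprime, h1]
      simp
    have hord : orderOf (x ^ 2) = 1 := by
      refine Nat.eq_one_of_dvd_coprimes (a := i) (b := 2 ^ (k - 1)) ?_ (orderOf_dvd_of_pow_eq_one hx) ?_
      · exact Nat.Coprime.pow_right _ ((Nat.coprime_two_right).mpr hiodd)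
      · have := _root_.orderOf_dvd_natCard (x ^ 2)
        rwa [Nat.card_eq_fintype_card, ZMod.card_units_eq_totient,
          Nat.totient_prime_pow Nat.prime_two (by omega), Nat.add_one_sub_one, mul_one] at this
    rw [orderOf_eq_one_iff] at hord
    have h2 := congrArg Units.val hord
    rw [Units.val_pow_eq_pow_val, ZMod.coe_unitOfCoprime, ← Nat.cast_pow, Units.val_one,
      ← Nat.cast_one, ZMod.natCast_eq_natCast_iff, ← hc] at h2
    conv_rhs => rw [← pow_one c]
    exact pow_eq_pow_iff_modEq.mpr h2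
  have hfix : ∀ r : R, r ^ q ^ 2 = r := by
    intro ⟨r, hr⟩
    induction hr using Subring.closure_induction with
    | mem x hx =>
      rw [Set.mem_singleton_iff] at hx
      subst hx
      exact Subtype.ext (by rw [SubmonoidClass.coe_pow, ← map_pow, hsq])
    | zero => exact zero_pow (pow_ne_zero _ hqp.ne_zero)
    | one => exact one_pow _
    | add x y hx hy ihx ihy =>
      exact (add_pow_char_pow (⟨x, hx⟩ : R) ⟨y, hy⟩ q 2).trans (congrArg₂ (· + ·) ihx ihy)
    | neg x hx ihx =>
      change (-(⟨x, hx⟩ : R)) ^ q ^ 2 = -(⟨x, hx⟩ : R)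
      rw [(Nat.odd_iff.mpr hqodd).pow.neg_pow, ihx]
    | mul x y hx hy ihx ihy =>
      exact (mul_pow (⟨x, hx⟩ : R) ⟨y, hy⟩ _).trans (congrArg₂ (· * ·) ihx ihy)
  have hR : Nat.card R ≤ q ^ 2 := by
    have h5 : 2 ≤ q ^ 2 := hqp.two_le.trans (Nat.le_self_pow two_ne_zero q)
    obtain ⟨g, hg⟩ := IsCyclic.exists_generator (α := Rˣ)
    have h1 : g ^ (q ^ 2 - 1) = 1 := by
      apply Units.ext
      have h2 := hfix (g : R)
      rw [← Nat.sub_add_cancel (Nat.one_le_pow 2 q hqp.pos), pow_succ] at h2
      rw [Units.val_pow_eq_pow_val, Units.val_one]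
      exact mul_right_cancel₀ g.ne_zero (h2.trans (one_mul _).symm)
    have h3 : Nat.card Rˣ ≤ q ^ 2 - 1 := by
      rw [← orderOf_eq_card_of_forall_mem_zpowers hg]
      have h4 := Nat.pow_le_pow_right hqp.pos (show 1 ≤ 2 by omega)
      have := hqp.two_le
      exact orderOf_le_of_pow_eq_one (by omega) h1
    rw [Nat.card_units] at h3
    have := Nat.card_pos (α := R)
    omega
  obtain ⟨v, hv⟩ := exists_ne (1 : V)
  let f : R → V := fun r => ((r : AddMonoid.End (Additive V)) (Additive.ofMul v)).toMul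
  let W : Subgroup V :=
    { carrier := Set.range f
      one_mem' := ⟨0, rfl⟩
      mul_mem' := by
        rintro _ _ ⟨a, rfl⟩ ⟨b, rfl⟩; exact ⟨a + b, rfl⟩
      inv_mem' := by
        rintro _ ⟨a, rfl⟩; exact ⟨-a, rfl⟩ }
  have hW : W = ⊤ := by
    refine (hirr W ?_).resolve_left fun e => hv ?_
    · rintro _ ⟨a, rfl⟩
      exact ⟨⟨φ c, hcR⟩ * a, rfl⟩
    · have : v ∈ W := ⟨1, rfl⟩
      rwa [e, mem_bot] at this
  exact (Nat.card_le_card_of_surjective f fun w => (show w ∈ W from hW ▸ mem_top w)).trans hR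

theorem quaternion_false [FaithfulSMul H V] (hcop : (Nat.card H).Coprime (Nat.card V))
    (hperf : commutator H = ⊤) (horb : POrbits 2 H V) (hirr : Irred H V) {q : ℕ} [Fact q.Prime]
    (hexp : ∀ v : V, v ^ q = 1) (P : Sylow 2 H) {c j : H} (hcP : c ∈ (P : Subgroup H))
    (hjP : j ∈ (P : Subgroup H)) (hjc : j ∉ zpowers c) (hj : j * c * j⁻¹ = c⁻¹) (h4 : 4 ∣ orderOf c)
    (hcover : ∀ π ∈ (P : Subgroup H), π ∈ zpowers c ∨ j⁻¹ * π ∈ zpowers c) : False := by
  classical
  haveI : Fact (Nat.Prime 2) := ⟨Nat.prime_two⟩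
  have hqp : q.Prime := Fact.out
  haveI : Nontrivial H := ⟨⟨j, 1, fun e => hjc (e ▸ one_mem _)⟩⟩
  haveI : Nontrivial V := by
    rcases subsingleton_or_nontrivial V with hV | hV
    · exact absurd (eq_of_smul_eq_smul fun v : V => Subsingleton.elim _ _ : j = 1)
        fun e => hjc (e ▸ one_mem _)
    · exact hV
  have hq : q ≠ 2 := by
    rintro rfl
    obtain ⟨v, hv⟩ := exists_ne (1 : V)
    have h1 : 2 ∣ Nat.card V := orderOf_eq_prime (hexp v) hv ▸ orderOf_dvd_natCard v
    have h2 : 2 ∣ Nat.card H := dvd_trans (by omega) (h4.trans (orderOf_dvd_natCard c))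
    exact Nat.not_coprime_of_dvd_of_dvd one_lt_two h2 h1 hcop
  have hinvc : ∀ W : Subgroup V, (∀ w ∈ W, c • w ∈ W) → ∀ g ∈ zpowers c, ∀ w ∈ W, g • w ∈ W := by
    intro W hW g hg
    obtain ⟨n, rfl⟩ := mem_powers_iff_mem_zpowers.mpr hg
    clear hg
    intro w hw
    induction n generalizing w with
    | zero => simpa using hw
    | succ n ih => change c ^ (n + 1) • w ∈ W; rw [pow_succ, mul_smul]; exact ih _ (hW w hw)
  by_cases hirrC : ∀ W : Subgroup V, (∀ w ∈ W, c • w ∈ W) → W = ⊥ ∨ W = ⊤
  · obtain ⟨k, hk⟩ := IsPGroup.iff_orderOf.mp P.isPGroup' ⟨c, hcP⟩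
    rw [Subgroup.orderOf_mk] at hk
    have hk2 : 2 ≤ k := by
      rw [hk, show 4 = 2 ^ 2 from rfl] at h4
      exact (Nat.pow_dvd_pow_iff_le_right one_lt_two).mp h4
    have hcard := card_le_sq hexp hk2 hk hj hq hirrC
    obtain ⟨v, hv⟩ := exists_ne (1 : V)
    have hvq : Nat.card (zpowers v) = q := by rw [Nat.card_zpowers, orderOf_eq_prime (hexp v) hv]
    set K := stabilizer H v
    have hK : ∀ h ∈ K, ∀ k ∈ K, h * k = k * h := by
      intro h hh k' hk'
      change h • v = v at hh
      change k' • v = v at hk'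
      have hzv : ∀ (g : H), g • v = v → ∀ n : ℤ, g • (v ^ n) = v ^ n := fun g hg n => by
        rw [smul_zpow', hg]
      refine eq_of_smul_eq_smul (α := V) fun w => ?_
      by_cases htop : zpowers v = ⊤
      · obtain ⟨n, rfl⟩ := mem_zpowers_iff.mp (htop ▸ mem_top w)
        simp only [mul_smul, hzv _ hh, hzv _ hk']
      obtain ⟨u, hu⟩ : ∃ u, u ∉ zpowers v := by
        by_contra hno
        push Not at hno
        exact htop (eq_top_iff.mpr fun x _ => hno x)
      have hgenV : zpowers v ⊔ zpowers u = ⊤ := by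
        refine eq_of_le_of_card_ge le_top ?_
        rw [card_top]
        refine hcard.trans ?_
        have hlt : zpowers v < zpowers v ⊔ zpowers u := lt_of_le_of_ne le_sup_left fun e =>
          hu (by rw [e]; exact mem_sup_right (mem_zpowers u))
        have hpg : IsPGroup q (zpowers v ⊔ zpowers u : Subgroup V) := fun x =>
          ⟨1, Subtype.ext (by simpa using hexp x)⟩
        obtain ⟨e, he⟩ := IsPGroup.iff_card.mp hpg
        rw [he]
        refine Nat.pow_le_pow_right hqp.pos ?_
        by_contra he2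
        refine hlt.ne (eq_of_le_of_card_ge hlt.le ?_)
        rw [he, hvq]
        exact (Nat.pow_le_pow_right hqp.pos (show e ≤ 1 by omega)).trans_eq (pow_one q)
      have hdec : ∀ x : V, ∃ m n : ℤ, x = v ^ m * u ^ n := fun x => by
        obtain ⟨y, hy, z, hz, rfl⟩ := mem_sup.mp (hgenV ▸ mem_top x)
        obtain ⟨m, rfl⟩ := mem_zpowers_iff.mp hy
        obtain ⟨n, rfl⟩ := mem_zpowers_iff.mp hz
        exact ⟨m, n, rfl⟩
      obtain ⟨b, a, hb⟩ := hdec (h • u)
      obtain ⟨d, e, hd⟩ := hdec (k' • u)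
      set g := (h * k') * (k' * h)⁻¹
      set u' := (k' * h) • u
      set t : ℤ := (d + b * e) - (b + d * a)
      have hgu : g • u' = v ^ t * u' := by
        simp only [g, u', ← mul_smul, inv_mul_cancel_right]
        simp only [mul_smul, hb, hd, smul_mul', hzv _ hh, hzv _ hk', smul_zpow', mul_zpow, ← zpow_mul]
        rw [← mul_assoc, ← mul_assoc, ← mul_assoc, ← zpow_add, ← zpow_add, ← zpow_add, mul_comm a e]
        congr 2
        simp only [t]
        ring
      have hgv : g • v = v := by
        simp only [g, mul_inv_rev, mul_smul]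
        rw [inv_smul_eq_iff.mpr hk'.symm, inv_smul_eq_iff.mpr hh.symm, hk', hh]
      have hgn : ∀ n : ℕ, g ^ n • u' = v ^ (n * t) * u' := by
        intro n
        induction n with
        | zero => simp
        | succ n ih =>
          rw [pow_succ', mul_smul, ih, smul_mul', hzv _ hgv, hgu, ← mul_assoc, ← zpow_add, Nat.cast_succ,
            add_mul, one_mul]
      have h1 := hgn (orderOf g)
      rw [pow_orderOf_eq_one, one_smul, eq_comm, mul_eq_right] at h1
      have hvt : v ^ t = 1 := by
        rw [← orderOf_dvd_iff_zpow_eq_one, orderOf_eq_prime (hexp v) hv] at h1 ⊢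
        rcases (Nat.prime_iff_prime_int.mp hqp).dvd_mul.mp h1 with h2 | h2
        · exfalso
          have h3 : q ∣ Nat.card H := (Int.natCast_dvd_natCast.mp h2).trans (orderOf_dvd_natCard g)
          have h4 : q ∣ Nat.card V := orderOf_eq_prime (hexp v) hv ▸ orderOf_dvd_natCard v
          exact Nat.not_coprime_of_dvd_of_dvd hqp.one_lt h3 h4 hcop
        · exact h2
      have heq : (h * k') • u = (k' * h) • u := by
        rw [hvt, one_mul] at hgu
        rw [show h * k' = g * (k' * h) by simp only [g, inv_mul_cancel_right], mul_smul]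
        exact hgu
      obtain ⟨m, n, rfl⟩ := hdec w
      simp only [smul_mul', smul_zpow', heq]
      simp only [mul_smul, hh, hk']
    have hKn : Group.IsNilpotent K := by
      letI : CommGroup K := { (inferInstance : Group K) with mul_comm := fun a b => Subtype.ext (hK a a.2 b b.2) }
      infer_instance
    haveI := P.isPGroup'.isNilpotent
    have hsol : Group.IsSolvable H :=
      Cfsg.Agent.Lib.KegelWielandt.isSolvable (A := (P : Subgroup H)) (B := K) inferInstance hKn
        fun g => by
          obtain ⟨π, hπ, e⟩ := exists_sylow_smul horb P v g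
          refine ⟨π, hπ, π⁻¹ * g, ?_, by group⟩
          change (π⁻¹ * g) • v = v
          rw [mul_smul, ← e, inv_smul_smul]
    exact (Group.IsSolvable.commutator_lt_top_of_nontrivial H).ne hperf
  · push Not at hirrC
    obtain ⟨W0, hW0, hW0b, hW0t⟩ := hirrC
    obtain ⟨W, hWle, hWmin⟩ := Finite.exists_le_minimal
      (p := fun W : Subgroup V => (∀ w ∈ W, c • w ∈ W) ∧ W ≠ ⊥) (a := W0) ⟨hW0, hW0b⟩
    obtain ⟨hWc, hWb⟩ := hWmin.prop
    have hWt : W ≠ ⊤ := fun e => hW0t (top_le_iff.mp (e ▸ hWle))
    have hcW : ∀ g ∈ zpowers c, g • W = W := fun g hg => by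
      refine le_antisymm ?_ ?_
      · rintro _ ⟨w, hw, rfl⟩; exact hinvc W hWc g hg w hw
      · intro w hw
        exact mem_pointwise_smul_iff_inv_smul_mem.mpr (hinvc W hWc g⁻¹ (inv_mem hg) w hw)
    have hjj : j⁻¹ * c * j = c⁻¹ := by
      rw [← inv_inv (j⁻¹ * c * j)]
      congr 1
      rw [show (j⁻¹ * c * j)⁻¹ = j⁻¹ * c⁻¹ * j by group, ← hj]
      group
    have hjWc : ∀ w ∈ j • W, c • w ∈ j • W := by
      rintro _ ⟨w, hw, rfl⟩
      refine ⟨c⁻¹ • w, hinvc W hWc _ (inv_mem (mem_zpowers c)) w hw, ?_⟩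
      change j • c⁻¹ • w = c • j • w
      rw [← mul_smul, ← mul_smul, ← hjj]
      congr 1
      group
    have hWne : j • W ≠ W := by
      intro e
      have hinv : ∀ π ∈ (P : Subgroup H), ∀ w ∈ W, π • w ∈ W := by
        intro π hπ w hw
        rcases hcover π hπ with h | h
        · exact hinvc W hWc π h w hw
        · rw [← e, mem_pointwise_smul_iff_inv_smul_mem, ← mul_smul]
          exact hinvc W hWc _ h w hw
      exact hWt ((hirr W (smul_mem_of_sylow horb P W hinv)).resolve_left hWb)
    have hinf : W ⊓ j • W = ⊥ := by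
      by_contra hne
      have h1 := hWmin.le_of_le ⟨fun w hw => mem_inf.mpr ⟨hWc w (mem_inf.mp hw).1, hjWc w (mem_inf.mp hw).2⟩, hne⟩ inf_le_left
      refine hWne (eq_of_le_of_card_ge (h1.trans inf_le_right) (le_of_eq ?_)).symm
      exact (Nat.card_congr (equivSMul j W).toEquiv).symm
    have hπW : ∀ π ∈ (P : Subgroup H), π • W = W ∨ π • W = j • W := by
      intro π hπ
      rcases hcover π hπ with h | h
      · exact Or.inl (hcW π h)
      · refine Or.inr ?_
        rw [show π • W = j • (j⁻¹ * π) • W by rw [← mul_smul, mul_inv_cancel_left], hcW _ h]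
    refine no_family (p := 2) hperf (fun h => absurd rfl h) horb P {W, j • W} ?_ ?_ ?_ ?_ ?_ ?_
    · rw [Nat.card_coe_set_eq, Set.ncard_pair hWne.symm]
    · rintro A (rfl | rfl) B (rfl | rfl) hne
      · exact absurd rfl hne
      · exact hinf
      · exact (inf_comm _ _).trans hinf
      · exact absurd rfl hne
    · rintro A (rfl | rfl)
      · exact hWb
      · intro e
        exact hWb (by simpa using congrArg (j⁻¹ • ·) e)
    · rintro π hπ A (rfl | rfl)
      · exact hπW π hπ
      · rw [← mul_smul]; exact hπW _ (mul_mem hπ hjP)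
    · rintro A (rfl | rfl) B (rfl | rfl)
      · exact ⟨1, one_mem _, one_smul H _⟩
      · exact ⟨j, hjP, rfl⟩
      · exact ⟨j⁻¹, inv_mem hjP, inv_smul_smul j _⟩
      · exact ⟨1, one_mem _, one_smul H _⟩
    · intro A hA B hB hne a ha b hb ha1 hb1 C hC hab
      have hC' : C = A ∨ C = B := by
        rcases hA with hA | hA <;> rcases hB with hB | hB <;> rcases hC with hC | hC <;>
          first
          | exact Or.inl (hC.trans hA.symm)
          | exact Or.inr (hC.trans hB.symm)
          | exact absurd (hA.trans hB.symm) hne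
      have hAB : A ⊓ B = ⊥ := by
        rcases hA with rfl | rfl <;> rcases hB with rfl | rfl
        · exact absurd rfl hne
        · exact hinf
        · exact (inf_comm _ _).trans hinf
        · exact absurd rfl hne
      rcases hC' with rfl | rfl
      · refine hb1 (mem_bot.mp (hAB ▸ mem_inf.mpr ⟨?_, hb⟩))
        exact (mul_mem_cancel_left ha).mp hab
      · refine ha1 (mem_bot.mp (hAB ▸ mem_inf.mpr ⟨ha, ?_⟩))
        exact (mul_mem_cancel_right hb).mp hab

end Cfsg.Agent.Lib.OrbitPower.Quaternion
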