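import Cfsg.Agent.Lib.OrbitPower.Schur
import Cfsg.Agent.Lib.OrbitPower.Quaternion
import Cfsg.Agent.S0519
import Cfsg.Agent.S0111

/-!
A group acting faithfully and coprimely on an abelian group with all orbits of `p`-power length
is solvable.
-/

set_option autoImplicit false
set_option linter.unusedSectionVars false
set_option linter.style.haveILetI false

namespace Cfsg.Agent.Lib.OrbitPower.Solvable

open Subgroup MulAction
open Cfsg.Agent.Lib.OrbitPower.Basic
open scoped Pointwise

universe u v

theorem eq_pow_half {G : Type*} [Group G] {c y : G} (hy : y ∈ zpowers c) (h2 : orderOf y = 2)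
    (hc : 2 ∣ orderOf c) : y = c ^ (orderOf c / 2) := by
  obtain ⟨i, rfl⟩ := mem_zpowers_iff.mp hy
  obtain ⟨N, hN⟩ := hc
  rw [hN, Nat.mul_div_cancel_left _ two_pos]
  have h1 : ((orderOf c : ℕ) : ℤ) ∣ i * 2 := by
    rw [orderOf_dvd_iff_zpow_eq_one, zpow_mul, show (2 : ℤ) = ((2 : ℕ) : ℤ) from rfl, zpow_natCast,
      ← h2, pow_orderOf_eq_one]
  have h3 : ¬ ((orderOf c : ℕ) : ℤ) ∣ i := by
    rw [orderOf_dvd_iff_zpow_eq_one]
    intro e
    rw [e, orderOf_one] at h2
    omega
  rw [← zpow_natCast, ← orderOf_dvd_sub_iff_zpow_eq_zpow]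
  rw [hN] at h1 h3 ⊢
  push_cast at h1 h3 ⊢
  obtain ⟨k, hk⟩ := h1
  have hi : i = N * k := by linarith
  rcases Int.even_or_odd k with ⟨t, rfl⟩ | ⟨t, rfl⟩
  · exact absurd ⟨t, by rw [hi]; ring⟩ h3
  · exact ⟨t, by rw [hi]; ring⟩

/-- Shapes of 2-groups all of whose abelian normal subgroups are cyclic. -/
theorem two_shape {P : Type*} [Group P] [Finite P] (hP : IsPGroup 2 P)
    (hn : ∀ A : Subgroup P, A.Normal → IsMulCommutative A → IsCyclic A) :
    IsCyclic P ∨ ∃ c : P, (zpowers c).index = 2 ∧ 2 ∣ orderOf c ∧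
      ((∃ u ∉ zpowers c, orderOf u = 2) ∨
        (4 ∣ orderOf c ∧ ∃ j ∉ zpowers c, j * c * j⁻¹ = c⁻¹)) := by
  haveI : Fact (Nat.Prime 2) := ⟨Nat.prime_two⟩
  have hidx : ∀ c : P, Nat.card P = orderOf c * 2 → (zpowers c).index = 2 := fun c h => by
    have h1 := (zpowers c).card_mul_index
    rw [Nat.card_zpowers, h] at h1
    exact Nat.eq_of_mul_eq_mul_left (orderOf_pos c) h1
  have hquat : ∀ n : ℕ, 2 ≤ n → 2 ∣ n → (P ≃* QuaternionGroup n) → ∃ c : P, (zpowers c).index = 2 ∧
      2 ∣ orderOf c ∧ ((∃ u ∉ zpowers c, orderOf u = 2) ∨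
        (4 ∣ orderOf c ∧ ∃ j ∉ zpowers c, j * c * j⁻¹ = c⁻¹)) := by
    intro n hn2 hev e
    haveI : NeZero n := ⟨by omega⟩
    have hc : orderOf (e.symm (QuaternionGroup.a 1)) = 2 * n := by
      rw [MulEquiv.orderOf_eq, QuaternionGroup.orderOf_a_one]
    refine ⟨e.symm (QuaternionGroup.a 1), hidx _ ?_, by rw [hc]; exact dvd_mul_right 2 n, Or.inr ⟨?_, ?_⟩⟩
    · rw [hc, Nat.card_congr e.toEquiv, Nat.card_eq_fintype_card, QuaternionGroup.card]; ring
    · rw [hc]; exact Nat.mul_dvd_mul_left 2 hev
    · refine ⟨e.symm (QuaternionGroup.xa 0), fun h => ?_, ?_⟩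
      · obtain ⟨k, hk⟩ := mem_powers_iff_mem_zpowers.mpr h
        change e.symm _ ^ k = _ at hk
        rw [← map_pow, QuaternionGroup.a_one_pow] at hk
        exact absurd (e.symm.injective hk) (by simp)
      · apply e.injective
        simp only [map_mul, map_inv, MulEquiv.apply_symm_apply]
        rw [mul_inv_eq_iff_eq_mul]
        change _ = QuaternionGroup.a (-1) * _
        simp
  by_cases hm : ∃ B : Subgroup P, IsMulCommutative B ∧ ¬ IsCyclic B
  · obtain ⟨-, h⟩ := Cfsg.Agent.S0519.result 2 hP hn hm
    rcases h with ⟨n, ⟨e⟩⟩ | ⟨n, hn8, ⟨e⟩⟩ | ⟨n, hn3, hcard, x, y, hx, hy, hxy⟩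
    · obtain ⟨k, hk⟩ := IsPGroup.iff_card.mp hP
      haveI : Finite (QuaternionGroup n) := Finite.of_equiv P e.toEquiv
      haveI : NeZero n := ⟨by
        rintro rfl
        have h := orderOf_pos (QuaternionGroup.a (1 : ZMod (2 * 0)))
        rw [QuaternionGroup.orderOf_a_one] at h
        omega⟩
      rw [Nat.card_congr e.toEquiv, Nat.card_eq_fintype_card, QuaternionGroup.card] at hk
      rcases (show n = 1 ∨ 2 ≤ n by have := NeZero.ne n; omega) with rfl | h2
      · refine Or.inl ?_
        haveI := QuaternionGroup.quaternionGroup_one_isCyclic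
        exact isCyclic_of_surjective e.symm.toMonoidHom e.symm.surjective
      · refine Or.inr (hquat n h2 ?_ e)
        obtain ⟨i, -, hi⟩ := (Nat.dvd_prime_pow Nat.prime_two).mp (hk ▸ dvd_mul_left n 4)
        rw [hi]
        exact dvd_pow_self 2 (by rintro rfl; simp at hi; omega)
    · haveI : NeZero n := ⟨by omega⟩
      have hc : orderOf (e.symm (DihedralGroup.r 1)) = n := by
        rw [MulEquiv.orderOf_eq, DihedralGroup.orderOf_r_one]
      have hev : 2 ∣ n := by
        obtain ⟨k, hk⟩ := IsPGroup.iff_orderOf.mp hP (e.symm (DihedralGroup.r 1))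
        rw [hc] at hk
        rw [hk]
        exact dvd_pow_self 2 (by rintro rfl; simp at hk; omega)
      refine Or.inr ⟨e.symm (DihedralGroup.r 1), hidx _ ?_, by rw [hc]; exact hev, Or.inl ?_⟩
      · rw [hc, Nat.card_congr e.toEquiv, DihedralGroup.nat_card]; ring
      · refine ⟨e.symm (DihedralGroup.sr 0), fun h => ?_, ?_⟩
        · obtain ⟨k, hk⟩ := mem_powers_iff_mem_zpowers.mpr h
          change e.symm _ ^ k = _ at hk
          rw [← map_pow, DihedralGroup.r_one_pow] at hk
          exact absurd (e.symm.injective hk) (by simp)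
        · rw [MulEquiv.orderOf_eq, DihedralGroup.orderOf_sr]
    · refine Or.inr ⟨x, hidx x (by rw [hx, hcard, pow_succ]), hx ▸ dvd_pow_self 2 (by omega),
        Or.inl ⟨y, fun h => ?_, hy⟩⟩
      obtain ⟨k, hk⟩ := mem_zpowers_iff.mp h
      rw [← hk, ((Commute.refl x).zpow_left k).eq, mul_inv_cancel_right] at hxy
      have h2 : 2 ^ 2 ≤ 2 ^ (n - 1) := Nat.pow_le_pow_right two_pos (by omega)
      have h3 : 2 ^ n = 2 * 2 ^ (n - 1) := by rw [← pow_succ']; congr 1; omega
      have h4 : (x ^ (2 ^ (n - 1) - 2)) = 1 := by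
        have h5 : x ^ (2 ^ (n - 1) - 2) * x = x := by
          rw [← pow_succ, show 2 ^ (n - 1) - 2 + 1 = 2 ^ (n - 1) - 1 by omega, ← hxy]
        simpa using h5
      have h6 := Nat.le_of_dvd (by omega) (orderOf_dvd_of_pow_eq_one h4)
      rw [hx] at h6
      omega
  · push Not at hm
    rcases Cfsg.Agent.Lib.PGroups.isCyclic_or_quaternion hP (fun x y hx hy => by
      by_contra hyx
      haveI : Nontrivial P := ⟨⟨x, 1, fun e => by rw [e, orderOf_one] at hx; omega⟩⟩
      obtain ⟨t, ht, hto⟩ := Cfsg.Agent.Lib.PGroups.exists_orderOf_eq_prime_of_ne_bot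
        (hP.to_subgroup _) hP.bot_lt_center.ne'
      have key : ∀ a : P, orderOf a = 2 → a ∈ zpowers t := by
        intro a ha
        let B := zpowers t ⊔ zpowers a
        have hBc : IsMulCommutative B := by
          rw [← Subgroup.le_centralizer_iff_isMulCommutative]
          refine sup_le ?_ ?_
          · rw [zpowers_le, mem_centralizer_iff]
            exact fun g _ => (mem_center_iff.mp ht g)
          · rw [zpowers_le, mem_centralizer_iff]
            intro g hg
            have : B ≤ centralizer {a} := by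
              refine sup_le ?_ ?_
              · rw [zpowers_le, mem_centralizer_singleton_iff]; exact (mem_center_iff.mp ht a).symm
              · rw [zpowers_le, mem_centralizer_singleton_iff]
            exact mem_centralizer_singleton_iff.mp (this hg)
        haveI := hm B hBc
        obtain ⟨c, hc⟩ := B.isCyclic_iff_exists_zpowers_eq_top.mp (hm B hBc)
        have htc : t ∈ zpowers c := by rw [hc]; exact mem_sup_left (mem_zpowers t)
        have hac : a ∈ zpowers c := by rw [hc]; exact mem_sup_right (mem_zpowers a)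
        have hdvd : 2 ∣ orderOf c := hto ▸ orderOf_dvd_of_mem_zpowers htc
        rw [eq_pow_half hac ha hdvd, ← eq_pow_half htc hto hdvd]
        exact mem_zpowers t
      have h1 : zpowers x = zpowers t := eq_of_le_of_card_ge (zpowers_le.mpr (key x hx)) (by
        rw [Nat.card_zpowers, Nat.card_zpowers, hx, hto])
      exact hyx (h1 ▸ key y hy)) with h | ⟨-, n, hn1, ⟨e⟩⟩
    · exact Or.inl h
    · exact Or.inr (hquat _ (Nat.le_self_pow (by omega) 2) (dvd_pow_self 2 (by omega)) e)

/-- A perfect group has no cyclic Sylow `p`-subgroup containing a central element of order `p`. -/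
theorem cyclic_central_false {H : Type*} [Group H] [Finite H] {p : ℕ} [Fact p.Prime]
    (hperf : commutator H = ⊤) (P : Sylow p H) [IsCyclic (P : Subgroup H)] {x : H}
    (hxP : x ∈ (P : Subgroup H)) (hx : orderOf x = p) (hxc : ∀ h : H, h * x = x * h) : False := by
  have hp : p.Prime := Fact.out
  have hle : normalizer ((P : Subgroup H) : Set H) ≤ centralizer ((P : Subgroup H) : Set H) := by
    intro n hn
    obtain ⟨g, hg⟩ := IsCyclic.exists_generator (α := (P : Subgroup H))
    have hgen : zpowers (g : H) = (P : Subgroup H) := by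
      refine le_antisymm (zpowers_le.mpr g.2) fun w hw => ?_
      obtain ⟨i, hi⟩ := mem_zpowers_iff.mp (hg ⟨w, hw⟩)
      exact mem_zpowers_iff.mpr ⟨i, by rw [← SubgroupClass.coe_zpow, hi]⟩
    obtain ⟨r, hr⟩ : ∃ r : ℕ, (g : H) ^ r = n * g * n⁻¹ := by
      have : n * g * n⁻¹ ∈ zpowers (g : H) := hgen.symm ▸ (mem_normalizer_iff.mp hn _).mp g.2
      exact mem_powers_iff_mem_zpowers.mpr this
    have hconj : ∀ k : ℕ, n ^ k * g * (n ^ k)⁻¹ = (g : H) ^ (r ^ k) := by
      intro k
      induction k with
      | zero => simp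
      | succ k ih =>
        rw [pow_succ', pow_succ r, show n * n ^ k * g * (n * n ^ k)⁻¹ = n * (n ^ k * g * (n ^ k)⁻¹) * n⁻¹ by group,
          ih, ← conj_pow, ← hr, ← pow_mul, mul_comm]
    obtain ⟨m, hm⟩ := IsPGroup.iff_orderOf.mp P.isPGroup' g
    rw [← orderOf_coe] at hm
    obtain ⟨l, hl⟩ : ∃ l : ℕ, (g : H) ^ l = x := mem_powers_iff_mem_zpowers.mpr (hgen.symm ▸ hxP)
    have hrx : x ^ r = x := by
      rw [← hl, ← pow_mul, mul_comm, pow_mul, hr, conj_pow, hl, hxc n, mul_inv_cancel_right]
    have hr1 : r ≡ 1 [MOD p] := by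
      rw [← hx]
      conv_rhs at hrx => rw [← pow_one x]
      exact pow_eq_pow_iff_modEq.mp hrx
    have hrm : r ^ p ^ m ≡ 1 [MOD p ^ m] := by
      have h1 : (p : ℤ) ∣ ((r : ℤ) - 1) := (Nat.modEq_iff_dvd.mp hr1.symm)
      have h2 := dvd_sub_pow_of_dvd_sub h1 m
      rw [one_pow] at h2
      refine (Nat.modEq_iff_dvd.mpr ?_).symm
      push_cast
      exact (pow_dvd_pow _ (Nat.le_succ m)).trans h2
    set C := (centralizer ((P : Subgroup H) : Set H)).subgroupOf (normalizer ((P : Subgroup H) : Set H))
    haveI : C.Normal := by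
      rw [show C = _ from (normalizerMonoidHom_ker _).symm]; infer_instance
    have h1 : (⟨n, hn⟩ : normalizer ((P : Subgroup H) : Set H)) ^ p ^ m ∈ C := by
      rw [mem_subgroupOf, SubmonoidClass.coe_pow, mem_centralizer_iff]
      intro w hw
      obtain ⟨i, rfl⟩ := mem_zpowers_iff.mp (hgen.symm ▸ hw : w ∈ zpowers (g : H))
      have h2 : n ^ p ^ m * g * (n ^ p ^ m)⁻¹ = g := by
        rw [hconj]
        conv_rhs => rw [← pow_one (g : H)]
        exact pow_eq_pow_iff_modEq.mpr (by rw [hm]; exact hrm)
      have h3 : Commute (n ^ p ^ m) (g : H) := mul_inv_eq_iff_eq_mul.mp h2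
      exact ((h3.zpow_right i).eq).symm
    have h2 : (⟨n, hn⟩ : normalizer ((P : Subgroup H) : Set H)) ^ C.index ∈ C := pow_index_mem C _
    have hcop : Nat.Coprime (p ^ m) C.index := by
      refine Nat.Coprime.pow_left _ (hp.coprime_iff_not_dvd.mpr fun hd => P.not_dvd_index ?_)
      refine hd.trans (dvd_trans ?_ (index_dvd_of_le (le_centralizer (P : Subgroup H))))
      exact relIndex_dvd_index_of_le (centralizer_le_normalizer _)
    obtain ⟨a, b, hab⟩ := (Nat.isCoprime_iff_coprime.mpr hcop : IsCoprime ((p ^ m : ℕ) : ℤ) (C.index : ℤ))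
    have h3 := mul_mem (zpow_mem h1 a) (zpow_mem h2 b)
    rw [← zpow_natCast, ← zpow_natCast, ← zpow_mul, ← zpow_mul, ← zpow_add,
      mul_comm _ a, mul_comm _ b, hab, zpow_one] at h3
    exact mem_subgroupOf.mp h3
  have hc := MonoidHom.ker_transferSylow_isComplement' P hle
  have hP1 : (P : Subgroup H) ≠ ⊥ := fun e => by
    rw [e, mem_bot] at hxP
    rw [hxP, orderOf_one] at hx
    exact hp.ne_one hx.symm
  letI : CommGroup (P : Subgroup H) := IsCyclic.commGroup
  have h1 : commutator H ≤ (MonoidHom.transferSylow P hle).ker := by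
    rw [_root_.commutator_def, commutator_le]
    intro a _ b _
    rw [MonoidHom.mem_ker, map_commutatorElement, commutatorElement_eq_one_iff_mul_comm]
    exact mul_comm _ _
  rw [hperf, top_le_iff] at h1
  rw [h1, isComplement'_top_left] at hc
  exact hP1 hc

/-- The main induction. -/
theorem isSolvable_aux : ∀ (n : ℕ) {H : Type u} {V : Type v} [Group H] [Finite H] [CommGroup V]
    [Finite V] [MulDistribMulAction H V] [FaithfulSMul H V] (p : ℕ) [Fact p.Prime],
    Nat.card H + Nat.card V ≤ n → (Nat.card H).Coprime (Nat.card V) → POrbits p H V →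
    Group.IsSolvable H := by
  intro n
  induction n using Nat.strong_induction_on with
  | _ n ih => ?_
  intro H V _ _ _ _ _ _ p _ hn hcop horb
  classical
  have hp : p.Prime := Fact.out
  by_contra hns
  haveI : Nontrivial H := by
    by_contra h
    rw [not_nontrivial_iff_subsingleton] at h
    exact hns (Group.isSolvable_of_comm fun a b => Subsingleton.elim _ _)
  -- proper normal subgroups are solvable
  have hN : ∀ N : Subgroup H, N.Normal → N ≠ ⊤ → Group.IsSolvable N := by
    intro N _ hNt
    have hlt : Nat.card N < Nat.card H := by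
      refine lt_of_le_of_ne (Nat.card_le_card_of_injective _ N.subtype_injective) fun e => hNt ?_
      exact eq_top_of_card_eq N e
    haveI : FaithfulSMul N V := ⟨fun h => Subtype.ext (eq_of_smul_eq_smul fun v : V => h v)⟩
    refine ih (Nat.card N + Nat.card V) (by omega) p le_rfl
      (hcop.coprime_dvd_left (card_subgroup_dvd_card N)) fun v => ?_
    obtain ⟨k, hk⟩ := horb v
    have hd : (stabilizer N v).index ∣ p ^ k := by
      rw [show stabilizer N v = (stabilizer H v).subgroupOf N from by ext; rfl, ← hk]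
      exact Cfsg.Agent.Lib.SylowNumbers.Basic.relIndex_dvd_index_of_normal_right _ _
    obtain ⟨j, -, hj⟩ := (Nat.dvd_prime_pow hp).mp hd
    exact ⟨j, hj⟩
  have hperf : commutator H = ⊤ := by
    by_contra h
    haveI := hN (commutator H) inferInstance h
    haveI : Group.IsSolvable (Abelianization H) := Group.isSolvable_of_comm mul_comm
    refine hns (Group.isSolvable_of_ker_le_range (commutator H).subtype (Abelianization.of (G := H)) ?_)
    rw [Subgroup.range_subtype, Abelianization.ker_of]
  -- proper invariant subgroups are fixed pointwise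
  have hWfix : ∀ W : Subgroup V, (∀ h : H, ∀ w ∈ W, h • w ∈ W) → W ≠ ⊤ →
      ∀ h : H, ∀ w ∈ W, h • w = w := by
    intro W hW hWt
    let φ : H →* MulAut W :=
      { toFun := fun h =>
          { toFun := fun w => ⟨h • (w : V), hW h w w.2⟩
            invFun := fun w => ⟨h⁻¹ • (w : V), hW _ w w.2⟩
            left_inv := fun w => Subtype.ext (inv_smul_smul h (w : V))
            right_inv := fun w => Subtype.ext (smul_inv_smul h (w : V))
            map_mul' := fun a b => Subtype.ext (smul_mul' h (a : V) (b : V)) }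
        map_one' := MulEquiv.ext fun w => Subtype.ext (one_smul H (w : V))
        map_mul' := fun a b => MulEquiv.ext fun w => Subtype.ext (mul_smul a b (w : V)) }
    by_cases hK : φ.ker = ⊤
    · intro h w hw
      have : φ h = 1 := MonoidHom.mem_ker.mp (hK ▸ mem_top h)
      exact congrArg Subtype.val (MulEquiv.congr_fun this ⟨w, hw⟩)
    · exfalso
      letI : MulDistribMulAction (H ⧸ φ.ker) W :=
        MulDistribMulAction.compHom W (QuotientGroup.kerLift φ)
      haveI : FaithfulSMul (H ⧸ φ.ker) W := ⟨fun {a b} h =>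
        QuotientGroup.kerLift_injective φ (MulEquiv.ext h)⟩
      have hlt : Nat.card W < Nat.card V := by
        refine lt_of_le_of_ne (Nat.card_le_card_of_injective _ W.subtype_injective) fun e => hWt ?_
        exact eq_top_of_card_eq W e
      have hle : Nat.card (H ⧸ φ.ker) ≤ Nat.card H :=
        Nat.card_le_card_of_surjective _ (QuotientGroup.mk'_surjective φ.ker)
      haveI := ih (Nat.card (H ⧸ φ.ker) + Nat.card W) (by omega) (H := H ⧸ φ.ker) (V := W) p le_rfl
        ((hcop.coprime_dvd_left (card_quotient_dvd_card _)).coprime_dvd_right (card_subgroup_dvd_card W))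
        fun w => by
          obtain ⟨k, hk⟩ := horb (w : V)
          have hd : (stabilizer (H ⧸ φ.ker) w).index ∣ p ^ k := by
            rw [← hk, ← index_comap_of_surjective _ (QuotientGroup.mk'_surjective φ.ker)]
            exact index_dvd_of_le fun h hh => Subtype.ext hh
          obtain ⟨j, -, hj⟩ := (Nat.dvd_prime_pow hp).mp hd
          exact ⟨j, hj⟩
      haveI := hN _ inferInstance hK
      exact hns (Group.isSolvable_of_ker_le_range φ.ker.subtype (QuotientGroup.mk' φ.ker)
        (by rw [QuotientGroup.ker_mk', Subgroup.range_subtype]))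
  haveI : Fintype H := Fintype.ofFinite H
  -- irreducible
  have hirr : Irred H V := by
    let τ : V →* V :=
      { toFun := fun v => ∏ h : H, h • v
        map_one' := by simp
        map_mul' := fun a b => by simp [smul_mul', Finset.prod_mul_distrib] }
    have hτ : ∀ (g : H) (v : V), g • τ v = τ v := by
      intro g v
      change g • (∏ h : H, h • v) = ∏ h : H, h • v
      rw [Finset.smul_prod']
      exact Fintype.prod_equiv (Equiv.mulLeft g) _ _ fun h => (mul_smul g h v).symm
    have hker : τ.ker = ⊤ := by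
      by_contra hne
      have hfix := hWfix τ.ker (fun h w hw => by
        rw [MonoidHom.mem_ker] at hw ⊢
        change ∏ k : H, k • h • w = 1
        rw [← hw]
        exact Fintype.prod_equiv (Equiv.mulRight h) _ _ fun k => (mul_smul k h w).symm) hne
      obtain ⟨h, hh⟩ := exists_ne (1 : H)
      refine hh (eq_of_smul_eq_smul fun v : V => ?_)
      rw [one_smul]
      have hmem : v ^ Nat.card H * (τ v)⁻¹ ∈ τ.ker := by
        rw [MonoidHom.mem_ker, map_mul, map_inv, map_pow, mul_inv_eq_one]
        change _ = ∏ k : H, k • τ v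
        simp [hτ, Nat.card_eq_fintype_card]
      have h1 := hfix h _ hmem
      rw [smul_mul', smul_inv', hτ, mul_left_inj, smul_pow'] at h1
      exact (powCoprime hcop.symm).injective h1
    intro W hW
    by_cases hWt : W = ⊤
    · exact Or.inr hWt
    refine Or.inl (eq_bot_iff.mpr fun w hw => mem_bot.mpr ?_)
    have h1 : τ w = 1 := MonoidHom.mem_ker.mp (hker ▸ mem_top w)
    change ∏ h : H, h • w = 1 at h1
    rw [Finset.prod_congr rfl (fun h _ => hWfix W hW hWt h w hw), Finset.prod_const,
      Finset.card_univ, ← Nat.card_eq_fintype_card] at h1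
    exact (powCoprime hcop.symm).injective (show w ^ Nat.card H = 1 ^ Nat.card H by rw [h1, one_pow])
  haveI : Nontrivial V := by
    by_contra h
    rw [not_nontrivial_iff_subsingleton] at h
    obtain ⟨g, hg⟩ := exists_ne (1 : H)
    exact hg (eq_of_smul_eq_smul fun v : V => Subsingleton.elim _ _)
  -- exponent
  obtain ⟨q, hq, hqV⟩ := Nat.exists_prime_and_dvd (Finite.one_lt_card (α := V)).ne'
  haveI : Fact q.Prime := ⟨hq⟩
  have hexp : ∀ v : V, v ^ q = 1 := by
    obtain ⟨v, hv⟩ := exists_prime_orderOf_dvd_card' q hqV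
    have h1 := (hirr (powMonoidHom q : V →* V).ker fun h w hw => by
      rw [MonoidHom.mem_ker, powMonoidHom_apply] at hw ⊢
      rw [← smul_pow', hw, smul_one]).resolve_left fun e => by
        have : v ∈ (powMonoidHom q : V →* V).ker := by
          rw [MonoidHom.mem_ker, powMonoidHom_apply, ← hv, pow_orderOf_eq_one]
        rw [e, mem_bot] at this
        rw [this, orderOf_one] at hv
        exact hq.ne_one hv.symm
    exact fun w => by
      have : w ∈ (powMonoidHom q : V →* V).ker := h1 ▸ mem_top w
      exact this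
  have hodd : p ≠ 2 → Odd (Nat.card H) := by
    intro hp2
    rw [← Nat.not_even_iff_odd]
    intro hev
    haveI : Fact (Nat.Prime 2) := ⟨Nat.prime_two⟩
    obtain ⟨t, ht⟩ := exists_prime_orderOf_dvd_card' 2 hev.two_dvd
    have ht1 : t ≠ 1 := fun e => by rw [e, orderOf_one] at ht; omega
    refine ht1 (eq_of_smul_eq_smul fun v : V => ?_)
    rw [one_smul]
    set w := v⁻¹ * t • v
    by_contra hne
    have hw1 : w ≠ 1 := fun e => hne (inv_mul_eq_one.mp e).symm
    have htt : t • t • v = v := by rw [← mul_smul, ← pow_two, ← ht, pow_orderOf_eq_one, one_smul]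
    have htw : t • w = w⁻¹ := by
      simp only [w, smul_mul', smul_inv', htt, mul_inv_rev, inv_inv]
      try rw [mul_comm]
    have hww : w⁻¹ ≠ w := by
      intro e
      have h2 : orderOf w = 2 := orderOf_eq_prime (by rw [pow_two]; nth_rw 1 [← e]; exact inv_mul_cancel w) hw1
      exact Nat.not_coprime_of_dvd_of_dvd one_lt_two hev.two_dvd (h2 ▸ orderOf_dvd_natCard w) hcop
    let M : Subgroup H := stabilizer H ({w, w⁻¹} : Set V)
    have hle : stabilizer H w ≤ M := fun g hg => by
      change g • ({w, w⁻¹} : Set V) = {w, w⁻¹}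
      rw [Set.smul_set_insert, Set.smul_set_singleton, smul_inv', show g • w = w from hg]
    have hrel : (stabilizer H w).relIndex M = 2 := by
      rw [relIndex, index_eq_two_iff']
      have htM : t ∈ M := by
        change t • ({w, w⁻¹} : Set V) = {w, w⁻¹}
        rw [Set.smul_set_insert, Set.smul_set_singleton, smul_inv', htw, inv_inv, Set.pair_comm]
      refine ⟨⟨t, htM⟩, fun b => ?_⟩
      simp only [mem_subgroupOf, Subgroup.coe_mul, mem_stabilizer_iff]
      have hb : (b : H) • w ∈ ({w, w⁻¹} : Set V) := by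
        have := b.2
        change (b : H) • ({w, w⁻¹} : Set V) = {w, w⁻¹} at this
        rw [← this]
        exact Set.smul_mem_smul_set (Set.mem_insert _ _)
      rcases hb with hb | hb
      · refine Or.inr ⟨hb, ?_⟩
        rw [mul_smul, hb, htw]; exact hww
      · rw [Set.mem_singleton_iff] at hb
        refine Or.inl ⟨?_, fun e => hww (hb.symm.trans e)⟩
        rw [mul_smul, hb, smul_inv', htw, inv_inv]
    obtain ⟨k, hk⟩ := horb w
    have h2 : 2 ∣ p ^ k := hk ▸ hrel ▸ relIndex_dvd_index_of_le hle
    exact hp2 ((Nat.prime_dvd_prime_iff_eq Nat.prime_two hp).mp (Nat.prime_two.dvd_of_dvd_pow h2)).symm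
  -- normal subgroups of order prime to p
  have hpp : ∀ L : Subgroup H, L.Normal → (Nat.card L).Coprime p → L = ⊥ := by
    intro L _ hL
    refine eq_bot_iff.mpr fun l hl => mem_bot.mpr (eq_of_smul_eq_smul fun v : V => ?_)
    rw [one_smul]
    obtain ⟨k, hk⟩ := horb v
    have h1 : (stabilizer H v).relIndex L = 1 :=
      Nat.eq_one_of_dvd_coprimes (hL.pow_right k) (relIndex_dvd_card _ _)
        (hk ▸ Cfsg.Agent.Lib.SylowNumbers.Basic.relIndex_dvd_index_of_normal_right _ _)
    exact relIndex_eq_one.mp h1 hl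
  obtain ⟨P⟩ : Nonempty (Sylow p H) := inferInstance
  have hnoE := fun E hEn hE hEc => no_elemAb (p := p) hcop hperf hodd horb hirr P E hEn hE hEc
  have hPne : (P : Subgroup H) ≠ ⊥ := fun e => by
    have h1 : ¬ p ∣ Nat.card H := by
      intro hd
      have := P.dvd_card_of_dvd_card hd
      rw [e, card_bot] at this
      exact hp.ne_one (Nat.dvd_one.mp this)
    have h2 := hpp ⊤ inferInstance (by rw [card_top]; exact (hp.coprime_iff_not_dvd.mpr h1).symm)
    exact top_ne_bot h2
  -- the cyclic case
  by_cases hcyc : IsCyclic (P : Subgroup H)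
  · obtain ⟨x, hxP, hx⟩ := Cfsg.Agent.Lib.PGroups.exists_orderOf_eq_prime_of_ne_bot P.isPGroup' hPne
    letI : CommGroup (P : Subgroup H) := IsCyclic.commGroup
    have hx1 : x ≠ 1 := fun e => by rw [e, orderOf_one] at hx; exact hp.ne_one hx.symm
    have huniq : ∀ K : Subgroup H, K ≤ (P : Subgroup H) → K ≠ ⊥ → x ∈ K := by
      intro K hKP hK
      obtain ⟨y, hy, hyo⟩ := Cfsg.Agent.Lib.PGroups.exists_orderOf_eq_prime_of_ne_bot
        (P.isPGroup'.to_le hKP) hK
      have hPc : ∀ w : (P : Subgroup H), orderOf w = p → zpowers w = (powMonoidHom p : _ →* (P : Subgroup H)).ker := by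
        intro w hw
        refine eq_of_le_of_card_ge (zpowers_le.mpr ?_) ?_
        · rw [MonoidHom.mem_ker, powMonoidHom_apply]
          exact orderOf_dvd_iff_pow_eq_one.mp (dvd_of_eq hw)
        · rw [IsCyclic.card_powMonoidHom_ker, Nat.card_zpowers, hw]
          exact Nat.le_of_dvd hp.pos (Nat.gcd_dvd_right _ _)
      have h1 := (hPc ⟨x, hxP⟩ (by rw [← orderOf_coe]; exact hx)).trans
        (hPc ⟨y, hKP hy⟩ (by rw [← orderOf_coe]; exact hyo)).symm
      obtain ⟨i, hi⟩ := mem_zpowers_iff.mp (h1 ▸ mem_zpowers (⟨x, hxP⟩ : (P : Subgroup H)))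
      have := congrArg Subtype.val hi
      rw [SubgroupClass.coe_zpow] at this
      exact (show (y : H) ^ i = x from this) ▸ zpow_mem hy i
    by_cases hR : ∃ R : Subgroup H, R.Normal ∧ R ≠ ⊥ ∧ Group.IsSolvable R
    · obtain ⟨R, hRn, hRb, hRs⟩ := hR
      obtain ⟨M, hMR, hMmin⟩ := Finite.exists_le_minimal
        (p := fun M : Subgroup H => M.Normal ∧ M ≠ ⊥) (a := R) ⟨hRn, hRb⟩
      obtain ⟨hMn, hMb⟩ := hMmin.prop
      haveI := hMn
      haveI : Group.IsSolvable M :=
        Group.isSolvable_of_isSolvable_injective (f := Subgroup.inclusion hMR) (Subgroup.inclusion_injective hMR)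
      haveI : Nontrivial M := (nontrivial_iff_ne_bot M).mpr hMb
      have hcM : ⁅M, M⁆ = ⊥ := by
        by_contra hne
        have h1 := hMmin.le_of_le ⟨inferInstance, hne⟩ (commutator_le_left M M)
        have h2 := Group.IsSolvable.commutator_lt_top_of_nontrivial M
        apply h2.ne
        apply map_injective M.subtype_injective
        rw [map_subtype_commutator, ← MonoidHom.range_eq_map, range_subtype]
        exact le_antisymm (commutator_le_left M M) h1
      have hMc : ∀ a ∈ M, ∀ b ∈ M, a * b = b * a := fun a ha b hb =>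
        commutatorElement_eq_one_iff_mul_comm.mp (mem_bot.mp (hcM ▸ commutator_mem_commutator ha hb))
      have hMp : IsPGroup p M := by
        rw [IsPGroup.iff_card]
        obtain ⟨i, t, ht, hit⟩ := Nat.exists_eq_pow_mul_and_not_dvd (Nat.card_pos (α := M)).ne' p hp.ne_one
        let L : Subgroup H :=
          { carrier := {a | a ∈ M ∧ a ^ t = 1}
            one_mem' := ⟨one_mem M, one_pow t⟩
            mul_mem' := fun {a b} ha hb => ⟨mul_mem ha.1 hb.1, by
              rw [(show Commute a b from hMc a ha.1 b hb.1).mul_pow, ha.2, hb.2, one_mul]⟩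
            inv_mem' := fun {a} ha => ⟨inv_mem ha.1, by rw [inv_pow, ha.2, inv_one]⟩ }
        have hLn : L.Normal := ⟨fun a ha g => ⟨hMn.conj_mem a ha.1 g, by
          rw [conj_pow, ha.2, mul_one, mul_inv_cancel]⟩⟩
        refine ⟨i, ?_⟩
        rw [hit]
        by_contra hne
        have ht1 : t ≠ 1 := fun e => hne (by rw [e, mul_one])
        obtain ⟨l, hl, hlt⟩ := Nat.exists_prime_and_dvd ht1
        haveI : Fact l.Prime := ⟨hl⟩
        obtain ⟨a, ha⟩ := exists_prime_orderOf_dvd_card' (G := M) l (hit ▸ hlt.mul_left _)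
        have haL : (a : H) ∈ L := ⟨a.2, by
          rw [← orderOf_dvd_iff_pow_eq_one, orderOf_coe, ha]; exact hlt⟩
        have hLc : (Nat.card L).Coprime p := by
          refine (hp.coprime_iff_not_dvd.mpr fun hd => ?_).symm
          obtain ⟨b, hb⟩ := exists_prime_orderOf_dvd_card' (G := L) p hd
          refine ht ?_
          rw [← hb, ← orderOf_coe, orderOf_dvd_iff_pow_eq_one]
          exact b.2.2
        rw [hpp L hLn hLc, mem_bot] at haL
        rw [← orderOf_coe, haL, orderOf_one] at ha
        exact hl.ne_one ha.symm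
      have hMP : M ≤ (P : Subgroup H) :=
        Cfsg.Agent.Lib.SylowNumbers.Basic.le_sylow_of_normalizing hMp P (by rw [normalizer_eq_top_iff.mpr hMn]; exact le_top)
      have hxM : x ∈ M := huniq M hMP hMb
      have hXn : (zpowers x).Normal := by
        refine ⟨fun a ha g => ?_⟩
        obtain ⟨i, rfl⟩ := mem_zpowers_iff.mp ha
        have hgx : g * x * g⁻¹ ∈ zpowers x := by
          have hgP : g * x * g⁻¹ ∈ (P : Subgroup H) := hMP (hMn.conj_mem x hxM g)
          have hne : zpowers (g * x * g⁻¹) ≠ ⊥ := by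
            rw [Ne, zpowers_eq_bot, mul_inv_eq_one]
            intro e
            exact hx1 (mul_eq_left.mp e)
          have h1 := huniq _ (zpowers_le.mpr hgP) hne
          have h2 : zpowers x = zpowers (g * x * g⁻¹) := eq_of_le_of_card_ge (zpowers_le.mpr h1) (by
            rw [Nat.card_zpowers, Nat.card_zpowers, ← MulAut.conj_apply, MulEquiv.orderOf_eq])
          rw [h2]; exact mem_zpowers _
        rw [← conj_zpow]
        exact zpow_mem hgx i
      haveI := hXn
      haveI : IsCyclic (zpowers x) := isCyclic_zpowers x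
      have hxc : ∀ h : H, h * x = x * h := by
        intro h
        let ψ : H →* MulAut (zpowers x) := MulAut.conjNormal
        have hker : commutator H ≤ ψ.ker := by
          rw [_root_.commutator_def, commutator_le]
          intro a _ b _
          rw [MonoidHom.mem_ker, map_commutatorElement, commutatorElement_eq_one_iff_mul_comm]
          apply (IsCyclic.mulAutMulEquiv (zpowers x)).injective
          rw [map_mul, map_mul, mul_comm]
        rw [hperf, top_le_iff] at hker
        have h1 : ψ h = 1 := MonoidHom.mem_ker.mp (hker ▸ mem_top h)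
        have h2 := congrArg Subtype.val (MulEquiv.congr_fun h1 ⟨x, mem_zpowers x⟩)
        simp only [ψ, MulAut.conjNormal_apply, MulAut.one_apply] at h2
        exact mul_inv_eq_iff_eq_mul.mp h2
      exact cyclic_central_false hperf P hxP hx hxc
    · push Not at hR
      have hfix := fixedSub_eq_bot horb hirr P (z := x)
        (fun π hπ => congrArg Subtype.val (mul_comm (⟨π, hπ⟩ : (P : Subgroup H)) ⟨x, hxP⟩)) hx1
      obtain ⟨v, hv⟩ := exists_ne (1 : V)
      have hfree : ∀ π ∈ (P : Subgroup H), π • v = v → π = 1 := by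
        intro π hπ hπv
        by_contra hne
        have h1 := huniq (zpowers π) (zpowers_le.mpr hπ) (by rwa [Ne, zpowers_eq_bot])
        have h2 : x ∈ stabilizer H v := (zpowers_le.mpr (show π ∈ stabilizer H v from hπv)) h1
        exact hv (mem_bot.mp (hfix ▸ (show v ∈ fixedSub x from h2)))
      let e : (P : Subgroup H) ≃ orbit H v := Equiv.ofBijective (fun π => ⟨(π : H) • v, mem_orbit v _⟩) ⟨
        fun a b hab => by
          have h1 : (a : H) • v = (b : H) • v := congrArg Subtype.val hab
          have h2 := hfree _ (mul_mem (inv_mem b.2) a.2) (by rw [mul_smul, h1, inv_smul_smul])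
          exact Subtype.ext (inv_mul_eq_one.mp h2).symm,
        fun ⟨w, g, hw⟩ => by
          obtain ⟨π, hπ, he⟩ := exists_sylow_smul horb P v g
          exact ⟨⟨π, hπ⟩, Subtype.ext (he.trans hw)⟩⟩
      let σ : H →* Equiv.Perm (P : Subgroup H) :=
        { toFun := fun h => (e.trans (MulAction.toPerm h)).trans e.symm
          map_one' := Equiv.ext fun π => by simp
          map_mul' := fun a b => Equiv.ext fun π => by simp [mul_smul] }
      have hσ : ∀ h π, ((σ h π : (P : Subgroup H)) : H) • v = h • (π : H) • v := by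
        intro h π
        have h1 : e (σ h π) = h • e π := e.apply_symm_apply _
        exact congrArg Subtype.val h1
      have hinj : ∀ a b : (P : Subgroup H), (a : H) • v = (b : H) • v → a = b := fun a b h =>
        e.injective (Subtype.ext h)
      obtain ⟨m, hm⟩ := IsPGroup.iff_card.mp P.isPGroup'
      have hι : ∀ a b : (P : Subgroup H), σ a b = a * b := fun a b => hinj _ _ (by
        rw [hσ, Subgroup.coe_mul, mul_smul])
      by_cases hm2 : 2 ≤ m
      · refine Schur.false_of_primitive σ (P : Subgroup H).subtype hι ?_ hm hm2 (hodd ?_)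
        · intro M hst ⟨a, ha1, haM⟩
          have hstab : stabilizer H v ≤ M := fun t ht => hst t (hinj _ _ (by
            rw [hσ]; simpa using ht))
          have hxM : x ∈ M := by
            have h1 := huniq (zpowers (a : H)) (zpowers_le.mpr a.2) (by
              rw [Ne, zpowers_eq_bot]; exact fun h => ha1 (Subtype.ext h))
            exact zpowers_le.mpr haM h1
          have hnc : normalClosure ({x} : Set H) ≤ M := by
            rw [normalClosure, closure_le]
            intro y hy
            rw [Group.mem_conjugatesOfSet_iff] at hy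
            obtain ⟨x', hx', hxy⟩ := hy
            rw [Set.mem_singleton_iff] at hx'
            rw [hx'] at hxy
            obtain ⟨h, rfl⟩ := isConj_iff.mp hxy
            obtain ⟨π, hπ, he⟩ := exists_sylow_smul horb P v h⁻¹
            have ht : π⁻¹ * h⁻¹ ∈ M := hstab (by
              change (π⁻¹ * h⁻¹) • v = v
              rw [mul_smul, ← he, inv_smul_smul])
            have hc : π * x = x * π := congrArg Subtype.val (mul_comm (⟨π, hπ⟩ : (P : Subgroup H)) ⟨x, hxP⟩)
            have : h * x * h⁻¹ = (π⁻¹ * h⁻¹)⁻¹ * x * (π⁻¹ * h⁻¹) := by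
              rw [show (π⁻¹ * h⁻¹)⁻¹ * x * (π⁻¹ * h⁻¹) = h * (π * x * π⁻¹) * h⁻¹ by group, hc,
                mul_inv_cancel_right]
            rw [SetLike.mem_coe, this]
            exact mul_mem (mul_mem (inv_mem ht) hxM) ht
          have htop : normalClosure ({x} : Set H) = ⊤ := by
            by_contra hne
            have h1 := hR _ normalClosure_normal (fun e => hx1 (mem_bot.mp (e ▸ subset_normalClosure (Set.mem_singleton x))))
            exact h1 (hN _ normalClosure_normal hne)
          intro b
          exact (top_le_iff.mp (htop ▸ hnc)) ▸ mem_top _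
        · intro h2
          subst h2
          have hxv : ∀ w : V, x • w = w⁻¹ := fun w => by
            have : w * x • w ∈ fixedSub (V := V) x := by
              rw [mem_fixedSub, smul_mul', ← mul_smul, ← pow_two, ← hx, pow_orderOf_eq_one, one_smul, mul_comm]
            rw [hfix, mem_bot] at this
            exact (inv_eq_of_mul_eq_one_right this).symm
          exact cyclic_central_false hperf P hxP hx fun h =>
            eq_of_smul_eq_smul fun w : V => by rw [mul_smul, mul_smul, hxv, hxv, smul_inv']
      · have hm1 : m = 1 := by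
          rcases m with _ | _ | m
          · exact absurd ((Subgroup.eq_bot_iff_card _).mpr (by rw [hm, pow_zero])) hPne
          · rfl
          · omega
        subst hm1
        refine not_transitive hperf hodd (α := (P : Subgroup H)) (by rw [hm, pow_one]) σ fun a b => ⟨(b * a⁻¹ : (P : Subgroup H)), ?_⟩
        rw [hι, inv_mul_cancel_right]
  -- the non-cyclic case
  have hp2 : p = 2 := by
    by_contra hp2
    obtain ⟨E, hEn, hE, hEc⟩ := Cfsg.Agent.Lib.PGroups.exists_normal_elemAb_sq hp2 P.isPGroup' hcyc
    exact hnoE E hEn hE hEc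
  subst hp2
  have habel : ∀ A : Subgroup (P : Subgroup H), A.Normal → IsMulCommutative A → IsCyclic A := by
    intro A hAn hA
    by_contra hnc
    haveI := hAn
    haveI := Cfsg.Agent.Lib.PGroups.omegaOne_normal (p := 2) (K := A)
    obtain ⟨E, hEn, hE, hEc⟩ := Cfsg.Agent.Lib.PGroups.exists_normal_le_card P.isPGroup'
      (Cfsg.omegaOne 2 A) (Cfsg.Agent.Lib.PGroups.sq_le_card_omegaOne hA (P.isPGroup'.to_subgroup A) hnc)
    exact hnoE E hEn (Cfsg.Agent.Lib.PGroups.elemAb_mono (Cfsg.Agent.Lib.PGroups.elemAb_omegaOne hA) hE) hEc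
  obtain ⟨c, hidx, hev, hshape⟩ := (two_shape P.isPGroup' habel).resolve_left hcyc
  haveI := normal_of_index_eq_two hidx
  rcases hshape with ⟨u, hu, hu2⟩ | ⟨h4, j, hjc, hj⟩
  · -- an involution outside the cyclic subgroup
    set z := c ^ (orderOf c / 2)
    have hz2 : orderOf z = 2 := by
      rw [orderOf_pow_of_dvd (by obtain ⟨N, hN⟩ := hev; have := orderOf_pos c; omega)
        (Nat.div_dvd_of_dvd hev), Nat.div_div_self hev (orderOf_pos c).ne']
    have hzc : ∀ π : (P : Subgroup H), π * z = z * π := fun π => by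
      have h1 : π * z * π⁻¹ ∈ zpowers c := Normal.conj_mem inferInstance _ (pow_mem (mem_zpowers c) _) π
      have h2 := eq_pow_half h1 (by rw [← MulAut.conj_apply, MulEquiv.orderOf_eq, hz2]) hev
      exact mul_inv_eq_iff_eq_mul.mp h2
    have hz1 : (z : H) ≠ 1 := fun e => by
      have : z = 1 := Subtype.ext e
      rw [this, orderOf_one] at hz2
      omega
    have hfix := fixedSub_eq_bot horb hirr P (z := (z : H))
      (fun π hπ => congrArg Subtype.val (hzc ⟨π, hπ⟩)) hz1
    have hzz : (z : H) * (z : H) = 1 := by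
      rw [← Subgroup.coe_mul, ← pow_two, orderOf_dvd_iff_pow_eq_one.mp (dvd_of_eq hz2), Subgroup.coe_one]
    have hzv : ∀ w : V, (z : H) • w = w⁻¹ := fun w => by
      have : w * (z : H) • w ∈ fixedSub (V := V) (z : H) := by
        rw [mem_fixedSub, smul_mul', ← mul_smul, hzz, one_smul, mul_comm]
      rw [hfix, mem_bot] at this
      exact (inv_eq_of_mul_eq_one_right this).symm
    have hzcent : ∀ h : H, h * (z : H) = (z : H) * h := fun h =>
      eq_of_smul_eq_smul fun w : V => by rw [mul_smul, mul_smul, hzv, hzv, smul_inv']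
    let Q : Subgroup H := (zpowers c).map (P : Subgroup H).subtype
    have hQi : Q.relIndex (P : Subgroup H) = 2 := by
      rw [relIndex, show Q.subgroupOf (P : Subgroup H) = zpowers c from
        comap_map_eq_self_of_injective (P : Subgroup H).subtype_injective _]
      exact hidx
    have huQ : (u : H) ∉ Q := by
      rintro ⟨w, hw, e⟩
      exact hu ((Subtype.ext e : w = u) ▸ hw)
    rcases Cfsg.Agent.S0111.result P Q (map_subtype_le _) hQi (u : H)
      (by rw [orderOf_coe, hu2]) u.2 huQ with ⟨M, hMn, hMi, huM⟩ | ⟨g, hg⟩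
    · haveI := hMn
      have h1 : commutator H ≤ M := by
        rw [_root_.commutator_def, commutator_le]
        intro a _ b _
        rw [← QuotientGroup.eq_one_iff, ← QuotientGroup.mk'_apply, map_commutatorElement,
          commutatorElement_eq_one_iff_mul_comm]
        haveI : IsCyclic (H ⧸ M) := isCyclic_of_prime_card (p := 2) hMi
        exact IsCyclic.commGroup.mul_comm _ _
      rw [hperf] at h1
      exact huM (h1 (mem_top _))
    · obtain ⟨w, hw, e⟩ := hg
      change (w : H) = g * (u : H) * g⁻¹ at e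
      have hw2 : orderOf w = 2 := by
        rw [← orderOf_coe, e, ← MulAut.conj_apply, MulEquiv.orderOf_eq, orderOf_coe, hu2]
      rw [eq_pow_half hw hw2 hev] at e
      apply hu
      have h1 : u = z := Subtype.ext (by
        rw [← mul_left_cancel_iff (a := g), ← mul_right_cancel_iff (a := g⁻¹), ← e, hzcent g,
          mul_inv_cancel_right])
      rw [h1]
      exact pow_mem (mem_zpowers c) _
  · -- quaternion
    refine Quaternion.quaternion_false hcop hperf horb hirr hexp P c.2 j.2 ?_ ?_ ?_ ?_
    · intro h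
      obtain ⟨i, hi⟩ := mem_zpowers_iff.mp h
      exact hjc (mem_zpowers_iff.mpr ⟨i, Subtype.ext (by rw [SubgroupClass.coe_zpow, hi])⟩)
    · exact congrArg Subtype.val hj
    · rwa [orderOf_coe]
    · intro π hπ
      by_cases h : (⟨π, hπ⟩ : (P : Subgroup H)) ∈ zpowers c
      · obtain ⟨i, hi⟩ := mem_zpowers_iff.mp h
        exact Or.inl (mem_zpowers_iff.mpr ⟨i, congrArg Subtype.val hi⟩)
      · have h1 : j⁻¹ * ⟨π, hπ⟩ ∈ zpowers c := by
          rw [mul_mem_iff_of_index_two hidx]
          simp [h, hjc]
        obtain ⟨i, hi⟩ := mem_zpowers_iff.mp h1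
        exact Or.inr (mem_zpowers_iff.mpr ⟨i, congrArg Subtype.val hi⟩)

/-- Coprime faithful action on an abelian group with all orbits of `p`-power length: solvable. -/
theorem isSolvable {H : Type u} {V : Type v} [Group H] [Finite H] [CommGroup V] [Finite V]
    [MulDistribMulAction H V] [FaithfulSMul H V] (p : ℕ) [Fact p.Prime]
    (hcop : (Nat.card H).Coprime (Nat.card V)) (horb : POrbits p H V) : Group.IsSolvable H :=
  isSolvable_aux _ p le_rfl hcop horb

end Cfsg.Agent.Lib.OrbitPower.Solvable
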