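import Mathlib
import Cfsg.Agent.S0675
import Cfsg.Agent.Lib.PGroups.UniqueInvolution
import Cfsg.Agent.Lib.Coprime.Action
import Cfsg.Agent.Lib.SylowNumbers.Actions

/-!
Coprime actions on abelian groups all of whose orbits have `p`-power length: the Sylow `p`-subgroup
has the same orbits; no invariant family of `p` blocks for a perfect group.
-/

set_option autoImplicit false
set_option linter.unusedSectionVars false
set_option linter.style.haveILetI false

namespace Cfsg.Agent.Lib.OrbitPower.Basic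

open Subgroup MulAction
open scoped Pointwise

variable {H V : Type*} [Group H] [Finite H] [CommGroup V] [Finite V] [MulDistribMulAction H V]

/-- All orbits have `p`-power length. -/
def POrbits (p : ℕ) (H V : Type*) [Group H] [CommGroup V] [MulDistribMulAction H V] : Prop :=
  ∀ v : V, ∃ k : ℕ, (stabilizer H v).index = p ^ k

/-- The elements fixed by `h`. -/
def fixedSub (h : H) : Subgroup V where
  carrier := {v | h • v = v}
  one_mem' := smul_one h
  mul_mem' := fun {a b} ha hb => by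
    simp only [Set.mem_setOf_eq] at ha hb ⊢
    rw [smul_mul', ha, hb]
  inv_mem' := fun {a} ha => by
    simp only [Set.mem_setOf_eq] at ha ⊢
    rw [smul_inv', ha]

@[simp] theorem mem_fixedSub {h : H} {v : V} : v ∈ fixedSub h ↔ h • v = v := Iff.rfl

variable {p : ℕ} [Fact p.Prime]

/-- The Sylow `p`-subgroup has the same orbits. -/
theorem exists_sylow_smul (horb : POrbits p H V) (P : Sylow p H) (v : V) (h : H) :
    ∃ π ∈ (P : Subgroup H), π • v = h • v := by
  obtain ⟨k, hk⟩ := horb v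
  set S := stabilizer H v
  have h1 : p ^ k ∣ S.relIndex (P : Subgroup H) := by
    have h2 : p ^ k ∣ (S ⊓ (P : Subgroup H)).index := hk ▸ index_dvd_of_le inf_le_left
    have h3 : (S ⊓ (P : Subgroup H)).index = S.relIndex P * (P : Subgroup H).index := by
      rw [← inf_relIndex_right, relIndex_mul_index inf_le_right]
    rw [h3] at h2
    exact (Nat.Coprime.pow_left k ((Fact.out : p.Prime).coprime_iff_not_dvd.mpr P.not_dvd_index)).dvd_of_dvd_mul_right h2
  have h2 : orbit (P : Subgroup H) v = orbit H v := by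
    have hsub : orbit (P : Subgroup H) v ⊆ orbit H v := orbit_subgroup_subset _ v
    refine Set.eq_of_subset_of_ncard_le hsub ?_ (Set.toFinite _)
    rw [← Nat.card_coe_set_eq (orbit (P : Subgroup H) v), Cfsg.Agent.Lib.SylowNumbers.Actions.card_orbit_subgroup, ← index_stabilizer, hk]
    exact Nat.le_of_dvd (Nat.pos_of_ne_zero (Subgroup.index_ne_zero_of_finite (H := S.subgroupOf (P : Subgroup H)))) h1
  have h3 : h • v ∈ orbit (P : Subgroup H) v := h2 ▸ mem_orbit v h
  obtain ⟨⟨π, hπ⟩, e⟩ := h3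
  exact ⟨π, hπ, e⟩

/-- A subgroup invariant under a Sylow `p`-subgroup is invariant. -/
theorem smul_mem_of_sylow (horb : POrbits p H V) (P : Sylow p H) (W : Subgroup V)
    (hW : ∀ π ∈ (P : Subgroup H), ∀ w ∈ W, π • w ∈ W) (h : H) : ∀ w ∈ W, h • w ∈ W := fun w hw => by
  obtain ⟨π, hπ, e⟩ := exists_sylow_smul horb P w h
  exact e ▸ hW π hπ w hw

/-- No invariant subgroups. -/
def Irred (H V : Type*) [Group H] [CommGroup V] [MulDistribMulAction H V] : Prop :=
  ∀ W : Subgroup V, (∀ h : H, ∀ w ∈ W, h • w ∈ W) → W = ⊥ ∨ W = ⊤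

/-- Elements centralised by a Sylow `p`-subgroup act fixed point freely. -/
theorem fixedSub_eq_bot [FaithfulSMul H V] (horb : POrbits p H V) (hirr : Irred H V)
    (P : Sylow p H) {z : H} (hz : ∀ π ∈ (P : Subgroup H), π * z = z * π) (hz1 : z ≠ 1) :
    fixedSub (V := V) z = ⊥ := by
  have hinv : ∀ h : H, ∀ w ∈ fixedSub (V := V) z, h • w ∈ fixedSub (V := V) z :=
    smul_mem_of_sylow horb P _ fun π hπ w hw => by
      rw [mem_fixedSub] at hw ⊢
      rw [← mul_smul, ← hz π hπ, mul_smul, hw]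
  refine (hirr _ hinv).resolve_right fun e => hz1 (eq_of_smul_eq_smul fun v : V => ?_)
  rw [one_smul]
  exact (mem_fixedSub.mp (e ▸ mem_top v))

/-- A perfect group of odd order, or `p = 2`, has no transitive action on `p` points. -/
theorem not_transitive (hperf : commutator H = ⊤) (hodd : p ≠ 2 → Odd (Nat.card H))
    {α : Type*} [Finite α] (hα : Nat.card α = p) (ψ : H →* Equiv.Perm α)
    (htr : ∀ a b : α, ∃ h, ψ h a = b) : False := by
  classical
  haveI : Fintype α := Fintype.ofFinite α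
  have hp : p.Prime := Fact.out
  set R := ψ.range
  haveI : IsPretransitive R α := ⟨fun a b => by
    obtain ⟨h, hh⟩ := htr a b
    exact ⟨⟨ψ h, h, rfl⟩, hh⟩⟩
  have hsol : Group.IsSolvable R := by
    by_cases h2 : p = 2
    · have hdvd := Subgroup.card_subgroup_dvd_card R
      rw [Nat.card_perm, hα, h2] at hdvd
      simp only [Nat.factorial] at hdvd
      rcases (Nat.dvd_prime Nat.prime_two).mp hdvd with e | e
      · haveI := (Nat.card_eq_one_iff_unique.mp e).1
        exact Group.isSolvable_of_comm fun _ _ => Subsingleton.elim _ _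
      · haveI : IsCyclic R := isCyclic_of_prime_card e
        exact Group.isSolvable_of_comm fun a b => IsCyclic.commGroup.mul_comm a b
    · refine (Cfsg.Agent.S0675.result (by rwa [← Nat.card_eq_fintype_card, hα]) R).resolve_right fun h => ?_
      haveI : Nontrivial α := Finite.one_lt_card_iff_nontrivial.mp (hα ▸ hp.one_lt)
      obtain ⟨a, b, hab⟩ := exists_pair_ne α
      obtain ⟨⟨_, t, rfl⟩, hta, htb⟩ := (is_two_pretransitive_iff (G := R) (α := α)).mp h hab hab.symm
      obtain ⟨j, hj⟩ := Odd.of_dvd_nat (hodd h2) (orderOf_dvd_natCard t)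
      have hta' : ψ t a = b := hta
      have htb' : ψ t b = a := htb
      have e4 : ψ (t * t) a = a := by rw [map_mul, Equiv.Perm.mul_apply, hta', htb']
      have e3 : t = (t * t) ^ (j + 1) := by
        rw [← pow_two, ← pow_mul, show 2 * (j + 1) = orderOf t + 1 by omega, pow_succ, pow_orderOf_eq_one, one_mul]
      apply hab
      rw [← hta', e3, map_pow]
      exact (Equiv.Perm.pow_apply_eq_self_of_apply_eq_self e4 _).symm
  have hRperf : commutator R = ⊤ := by
    have h1 : (commutator H).map ψ.rangeRestrict = commutator R := by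
      rw [commutator_def, commutator_def, map_commutator,
        Subgroup.map_top_of_surjective _ ψ.rangeRestrict_surjective]
    rw [← h1, hperf, Subgroup.map_top_of_surjective _ ψ.rangeRestrict_surjective]
  haveI := hsol
  rcases subsingleton_or_nontrivial R with hs | hs
  · haveI : Nontrivial α := Finite.one_lt_card_iff_nontrivial.mp (hα ▸ hp.one_lt)
    obtain ⟨a, b, hab⟩ := exists_pair_ne α
    obtain ⟨r, hr⟩ := exists_smul_eq R a b
    rw [Subsingleton.elim r 1, one_smul] at hr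
    exact hab hr
  · exact (Group.IsSolvable.commutator_lt_top_of_nontrivial R).ne hRperf

/-- An invariant family of `p` subgroups, permuted transitively by `P`, meeting pairwise trivially,
with no member containing a product from two others, contradicts perfection. -/
theorem no_family (hperf : commutator H = ⊤) (hodd : p ≠ 2 → Odd (Nat.card H))
    (horb : POrbits p H V) (P : Sylow p H) (𝔅 : Set (Subgroup V)) (hcard : Nat.card 𝔅 = p)
    (hinf : ∀ W ∈ 𝔅, ∀ W' ∈ 𝔅, W ≠ W' → W ⊓ W' = ⊥) (hne : ∀ W ∈ 𝔅, W ≠ ⊥)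
    (hP : ∀ π ∈ (P : Subgroup H), ∀ W ∈ 𝔅, π • W ∈ 𝔅)
    (htr : ∀ W ∈ 𝔅, ∀ W' ∈ 𝔅, ∃ π ∈ (P : Subgroup H), π • W = W')
    (hind : ∀ W₁ ∈ 𝔅, ∀ W₂ ∈ 𝔅, W₁ ≠ W₂ → ∀ a ∈ W₁, ∀ b ∈ W₂, a ≠ 1 → b ≠ 1 →
      ∀ W ∈ 𝔅, a * b ∉ W) : False := by
  classical
  have hU : ∀ h : H, ∀ W ∈ 𝔅, ∀ u ∈ h • W, ∃ W' ∈ 𝔅, u ∈ W' := by
    rintro h W hW _ ⟨w, hw, rfl⟩
    obtain ⟨π, hπ, e⟩ := exists_sylow_smul horb P w h
    exact ⟨π • W, hP π hπ W hW, by
      change h • w ∈ _; rw [← e]; exact smul_mem_pointwise_smul _ _ _ hw⟩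
  have hle : ∀ h : H, ∀ W ∈ 𝔅, ∃ W' ∈ 𝔅, h • W ≤ W' := by
    intro h W hW
    obtain ⟨w, hw, hw1⟩ := (W.bot_or_exists_ne_one).resolve_left (hne W hW)
    have ha : h • w ∈ h • W := smul_mem_pointwise_smul _ _ _ hw
    have ha1 : h • w ≠ 1 := fun e => hw1 (by simpa using congrArg (h⁻¹ • ·) e)
    obtain ⟨W₁, hW₁, haW⟩ := hU h W hW _ ha
    refine ⟨W₁, hW₁, fun b hb => ?_⟩
    by_contra hbn
    obtain ⟨W₂, hW₂, hbW⟩ := hU h W hW b hb
    have hb1 : b ≠ 1 := fun e => hbn (e ▸ one_mem _)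
    obtain ⟨W', hW', hab⟩ := hU h W hW _ (mul_mem ha hb)
    exact hind W₁ hW₁ W₂ hW₂ (fun e => hbn (e ▸ hbW)) _ haW b hbW ha1 hb1 W' hW' hab
  have hmem : ∀ h : H, ∀ W ∈ 𝔅, h • W ∈ 𝔅 := by
    intro h W hW
    obtain ⟨W₁, hW₁, h1⟩ := hle h W hW
    obtain ⟨W₂, hW₂, h2⟩ := hle h⁻¹ W₁ hW₁
    have h3 : W ≤ W₂ := le_trans (by
      rw [← inv_smul_smul h W]; exact pointwise_smul_le_pointwise_smul_iff.mpr h1) h2
    have e : W₂ = W := by
      by_contra hne'
      have := hinf W hW W₂ hW₂ (Ne.symm hne')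
      rw [inf_eq_left.mpr h3] at this
      exact hne W hW this
    subst e
    have h4 : W₁ ≤ h • W₂ := by
      rw [← smul_inv_smul h W₁]; exact pointwise_smul_le_pointwise_smul_iff.mpr h2
    rw [le_antisymm h1 h4]
    exact hW₁
  let ψ : H →* Equiv.Perm 𝔅 :=
    { toFun := fun h =>
        { toFun := fun W => ⟨h • (W : Subgroup V), hmem h _ W.2⟩
          invFun := fun W => ⟨h⁻¹ • (W : Subgroup V), hmem _ _ W.2⟩
          left_inv := fun W => Subtype.ext (inv_smul_smul h _)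
          right_inv := fun W => Subtype.ext (smul_inv_smul h _) }
      map_one' := Equiv.ext fun W => Subtype.ext (one_smul H (W : Subgroup V))
      map_mul' := fun a b => Equiv.ext fun W => Subtype.ext (mul_smul a b (W : Subgroup V)) }
  refine not_transitive hperf hodd hcard ψ fun a b => ?_
  obtain ⟨π, hπ, e⟩ := htr _ a.2 _ b.2
  exact ⟨π, Subtype.ext e⟩

/-- The Sylow `p`-subgroup has no normal elementary abelian subgroup of order `p ^ 2`. -/
theorem no_elemAb [FaithfulSMul H V] (hcop : (Nat.card H).Coprime (Nat.card V))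
    (hperf : commutator H = ⊤) (hodd : p ≠ 2 → Odd (Nat.card H))
    (horb : POrbits p H V) (hirr : Irred H V) (P : Sylow p H)
    (E : Subgroup (P : Subgroup H)) (hEn : E.Normal) (hE : Cfsg.IsElementaryAbelian p E)
    (hEc : Nat.card E = p ^ 2) : False := by
  have hp : p.Prime := Fact.out
  haveI := hEn
  have hEb : E ≠ ⊥ := fun e => by
    rw [e, card_bot] at hEc
    exact (Nat.one_lt_pow two_ne_zero hp.one_lt).ne hEc
  obtain ⟨Z, hZE, hZc, hZn, hZcard⟩ :=
    Cfsg.Agent.Lib.PGroups.exists_central_card_prime P.isPGroup' E hEb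
  haveI := hZn
  obtain ⟨z0, hz0⟩ := exists_prime_orderOf_dvd_card' (G := Z) p hZcard.symm.dvd
  set z : H := ((z0 : (P : Subgroup H)) : H)
  have hzE : (z0 : (P : Subgroup H)) ∈ E := hZE z0.2
  have hz1 : z ≠ 1 := fun e => by
    have : z0 = 1 := Subtype.ext (Subtype.ext e)
    rw [this, orderOf_one] at hz0
    exact hp.ne_one hz0.symm
  have hzc : ∀ π ∈ (P : Subgroup H), π * z = z * π := fun π hπ =>
    congrArg Subtype.val (mem_center_iff.mp (hZc z0.2) ⟨π, hπ⟩)
  have hfix := fixedSub_eq_bot horb hirr P hzc hz1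
  obtain ⟨a0, ha0, haZ⟩ : ∃ a ∈ E, a ∉ Z := by
    by_contra h
    push Not at h
    have := card_le_of_le (show E ≤ Z from h)
    rw [hEc, hZcard, pow_two] at this
    nlinarith [hp.one_lt]
  set a : H := (a0 : H)
  have hzp : z ^ p = 1 := congrArg Subtype.val (hE.2 _ hzE)
  have haz : Commute a z := hzc a a0.2
  -- every element of `E` is a power of `z` or of some `a z ^ i`
  have hgen : ∀ e ∈ E, (∃ k : ℕ, (e : H) = z ^ k) ∨
      ∃ i : Fin p, ∃ j : ℕ, ¬ p ∣ j ∧ (e : H) = (a * z ^ (i : ℕ)) ^ j := by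
    intro e he
    have hA : (zpowers a0 ⊔ Z : Subgroup (P : Subgroup H)) = E := by
      refine eq_of_le_of_card_ge (sup_le (zpowers_le.mpr ha0) hZE) ?_
      have hlt : Z < zpowers a0 ⊔ Z := lt_of_le_of_ne le_sup_right fun e' =>
        haZ (by rw [e']; exact mem_sup_left (mem_zpowers a0))
      have h1 := card_dvd_of_le hlt.le
      have h2 : Nat.card (zpowers a0 ⊔ Z : Subgroup (P : Subgroup H)) ∣ p ^ 2 :=
        hEc ▸ card_dvd_of_le (sup_le (zpowers_le.mpr ha0) hZE)
      obtain ⟨k, hk, hk'⟩ := (Nat.dvd_prime_pow hp).mp h2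
      rw [hEc, hk']
      refine Nat.pow_le_pow_right hp.pos ?_
      by_contra hk2
      refine hlt.ne (eq_of_le_of_card_ge hlt.le ?_)
      rw [hk', hZcard]
      calc p ^ k ≤ p ^ 1 := Nat.pow_le_pow_right hp.pos (by omega)
        _ = p := pow_one p
    rw [← hA] at he
    obtain ⟨u, hu, w, hw, rfl⟩ := mem_sup_of_normal_left.mp (show e ∈ Z ⊔ zpowers a0 by rwa [sup_comm])
    obtain ⟨j, rfl⟩ := mem_zpowers_iff.mp hw
    have hu' : u ∈ zpowers (z0 : (P : Subgroup H)) := by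
      have : zpowers (z0 : (P : Subgroup H)) = Z := eq_of_le_of_card_ge (zpowers_le.mpr z0.2) (by
        rw [hZcard, Nat.card_zpowers, orderOf_coe, hz0])
      rw [this]; exact hu
    obtain ⟨k, rfl⟩ := mem_zpowers_iff.mp hu'
    have hap : a ^ p = 1 := congrArg Subtype.val (hE.2 _ ha0)
    obtain ⟨j', hj'⟩ : ∃ j' : ℕ, a ^ j = a ^ j' := (mem_powers_iff_mem_zpowers.mpr
      (zpow_mem (mem_zpowers a) j)).imp fun _ h => h.symm
    obtain ⟨k', hk'⟩ : ∃ k' : ℕ, z ^ k = z ^ k' := (mem_powers_iff_mem_zpowers.mpr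
      (zpow_mem (mem_zpowers z) k)).imp fun _ h => h.symm
    have hval : (((z0 : (P : Subgroup H)) ^ k * a0 ^ j : (P : Subgroup H)) : H) = z ^ k' * a ^ j' := by
      rw [← hj', ← hk']; push_cast; rfl
    by_cases hd : p ∣ j'
    · refine Or.inl ⟨k', ?_⟩
      obtain ⟨c, rfl⟩ := hd
      rw [hval, pow_mul a, hap, one_pow, mul_one]
    · haveI : NeZero p := ⟨hp.ne_zero⟩
      let i : ZMod p := (k' : ZMod p) * (j' : ZMod p)⁻¹
      refine Or.inr ⟨⟨i.val, ZMod.val_lt _⟩, j', hd, ?_⟩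
      rw [hval, (haz.pow_right i.val).mul_pow, ← pow_mul, ← (haz.pow_pow j' k').eq]
      congr 1
      rw [pow_eq_pow_iff_modEq]
      refine (Nat.ModEq.of_dvd (orderOf_dvd_of_pow_eq_one hzp) ?_).symm
      rw [← ZMod.natCast_eq_natCast_iff, Nat.cast_mul, ZMod.natCast_zmod_val, mul_assoc,
        inv_mul_cancel₀ (by rwa [Ne, ZMod.natCast_eq_zero_iff]), mul_one]
  let W : Fin p → Subgroup V := fun i => fixedSub (a * z ^ (i : ℕ))
  have hWcomm : ∀ i j : Fin p, ∀ v ∈ W i, (a * z ^ (j : ℕ)) • v ∈ W i := by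
    intro i j v hv
    have hc : Commute (a * z ^ (i : ℕ)) (a * z ^ (j : ℕ)) :=
      ((Commute.refl a).mul_right (haz.pow_right _)).mul_left
        ((haz.pow_right _).symm.mul_right ((Commute.refl z).pow_pow _ _))
    simp only [W, mem_fixedSub] at hv ⊢
    rw [← mul_smul, hc.eq, mul_smul, hv]
  have hWinf : ∀ i j : Fin p, i ≠ j → W i ⊓ W j = ⊥ := by
    intro i j hij
    rw [eq_bot_iff]
    rintro v ⟨hvi, hvj⟩
    simp only [W, SetLike.mem_coe, mem_fixedSub] at hvi hvj
    have h1 : ((a * z ^ (i : ℕ))⁻¹ * (a * z ^ (j : ℕ))) • v = v := by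
      rw [mul_smul, hvj, inv_smul_eq_iff, hvi]
    rw [show (a * z ^ (i : ℕ))⁻¹ * (a * z ^ (j : ℕ)) = z ^ ((j : ℤ) - (i : ℤ)) by
      rw [zpow_sub, zpow_natCast, zpow_natCast]
      rw [show z ^ (j : ℕ) * (z ^ (i : ℕ))⁻¹ = (z ^ (i : ℕ))⁻¹ * z ^ (j : ℕ) from
        (((Commute.refl z).pow_pow _ _).inv_right).eq]
      group] at h1
    have hzo : orderOf z = p := orderOf_eq_prime hzp hz1
    have hne' : z ^ ((j : ℤ) - (i : ℤ)) ≠ 1 := by
      rw [Ne, ← orderOf_dvd_iff_zpow_eq_one, hzo]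
      intro hd
      refine hij (Fin.ext ?_)
      have := i.isLt; have := j.isLt
      have := Int.eq_zero_of_abs_lt_dvd hd (by rw [abs_lt]; constructor <;> omega)
      omega
    have hgen2 : z ∈ zpowers (z ^ ((j : ℤ) - (i : ℤ))) := by
      refine zpowers_le.mp (le_of_eq ?_)
      refine (eq_of_le_of_card_ge (zpowers_le.mpr (zpow_mem (mem_zpowers z) _)) ?_).symm
      rw [Nat.card_zpowers, Nat.card_zpowers, hzo]
      rcases (Nat.dvd_prime hp).mp (hzo ▸ orderOf_dvd_of_mem_zpowers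
        (zpow_mem (mem_zpowers z) ((j : ℤ) - (i : ℤ)))) with h | h
      · exact absurd (orderOf_eq_one_iff.mp h) hne'
      · exact h.ge
    have hz : z • v = v := (zpowers_le.mpr (show z ^ ((j : ℤ) - (i : ℤ)) ∈ stabilizer H v from h1)) hgen2
    rw [← hfix]
    exact hz
  let 𝔅 : Set (Subgroup V) := {U | (∃ i, U = W i) ∧ U ≠ ⊥}
  have hPmem : ∀ π ∈ (P : Subgroup H), ∀ U ∈ 𝔅, π • U ∈ 𝔅 := by
    rintro π hπ _ ⟨⟨i, rfl⟩, hne⟩
    have hb : π • W i ≠ ⊥ := fun e => hne (by
      have := congrArg (π⁻¹ • ·) e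
      simpa using this)
    refine ⟨?_, hb⟩
    have hconjE : (⟨π, hπ⟩ : (P : Subgroup H)) * (a0 * z0.1 ^ (i : ℕ)) * (⟨π, hπ⟩ : (P : Subgroup H))⁻¹ ∈ E :=
      hEn.conj_mem _ (mul_mem ha0 (pow_mem hzE _)) _
    have hmap : ∀ v, v ∈ π • W i ↔ (π * (a * z ^ (i : ℕ)) * π⁻¹) • v = v := fun v => by
      rw [mem_pointwise_smul_iff_inv_smul_mem]
      simp only [W, mem_fixedSub, mul_smul, eq_inv_smul_iff]
    rcases hgen _ hconjE with ⟨k, hk⟩ | ⟨i', j, hj, hk⟩
    · exfalso
      have hk' : π * (a * z ^ (i : ℕ)) * π⁻¹ = z ^ k := by rw [← hk]; push_cast; rfl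
      apply haZ
      have h1 : a * z ^ (i : ℕ) = z ^ k := by
        rw [show a * z ^ (i : ℕ) = π⁻¹ * (π * (a * z ^ (i : ℕ)) * π⁻¹) * π by group, hk',
          mul_assoc, ← ((show Commute π z from hzc π hπ).pow_right k).eq, inv_mul_cancel_left]
      have h2 : (a0 * z0.1 ^ (i : ℕ) : (P : Subgroup H)) ∈ Z := by
        rw [show (a0 * z0.1 ^ (i : ℕ) : (P : Subgroup H)) = z0.1 ^ k from Subtype.ext (by push_cast; exact h1)]
        exact pow_mem z0.2 _
      simpa using mul_mem h2 (inv_mem (pow_mem z0.2 (i : ℕ)))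
    · refine ⟨i', ?_⟩
      have hk' : π * (a * z ^ (i : ℕ)) * π⁻¹ = (a * z ^ (i' : ℕ)) ^ j := by rw [← hk]; push_cast; rfl
      ext v
      rw [hmap, hk', mem_fixedSub]
      constructor
      · intro h
        have hw : (a * z ^ (i' : ℕ)) ^ p = 1 := by
          rw [(haz.pow_right _).mul_pow, show a ^ p = 1 from congrArg Subtype.val (hE.2 _ ha0), one_mul,
            ← pow_mul, mul_comm, pow_mul, hzp, one_pow]
        obtain ⟨l, -, hl⟩ := Nat.exists_mul_mod_eq_one_of_coprime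
          ((hp.coprime_iff_not_dvd.mpr hj).symm) hp.one_lt
        have h2 : ((a * z ^ (i' : ℕ)) ^ j) ^ l = a * z ^ (i' : ℕ) := by
          rw [← pow_mul, ← Nat.mod_add_div (j * l) p, hl, pow_add, pow_one, pow_mul, hw, one_pow, mul_one]
        have h3 : ((a * z ^ (i' : ℕ)) ^ j) ^ l ∈ stabilizer H v := pow_mem h l
        rw [h2] at h3
        exact h3
      · intro h
        exact pow_mem (show a * z ^ (i' : ℕ) ∈ stabilizer H v from h) j
  have h1n : ∃ U, U ∈ 𝔅 := by
    by_contra hnone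
    push Not at hnone
    have hnc : ¬ IsCyclic E := Cfsg.Agent.Lib.PGroups.not_isCyclic_of_elemAb_card le_rfl hE hEc
    have hcop' : (Nat.card E).Coprime (Nat.card V) := hcop.coprime_dvd_left
      ((card_subgroup_dvd_card E).trans (card_subgroup_dvd_card (P : Subgroup H)))
    letI : MulDistribMulAction E V :=
      MulDistribMulAction.compHom V ((P : Subgroup H).subtype.comp E.subtype)
    have htop := Cfsg.Agent.Lib.Coprime.Action.closure_fixed_eq_top (A := E) (G := V)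
      (fun x y => by haveI := hE.1; exact mul_comm' x y) hnc hcop'
    have hV : (⊤ : Subgroup V) ≤ ⊥ := by
      rw [← htop, Subgroup.closure_le]
      rintro v ⟨e, he1, hev⟩
      change ((e : (P : Subgroup H)) : H) • v = v at hev
      rcases hgen e e.2 with ⟨k, hk⟩ | ⟨i, j, hj, hk⟩
      · rw [hk] at hev
        have hzo : orderOf z = p := orderOf_eq_prime hzp hz1
        have hkn : ¬ p ∣ k := fun hd => he1 (Subtype.ext (Subtype.ext (by
          rw [hk]; exact orderOf_dvd_iff_pow_eq_one.mp (hzo.symm ▸ hd))))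
        obtain ⟨l, -, hl⟩ := Nat.exists_mul_mod_eq_one_of_coprime
          ((hp.coprime_iff_not_dvd.mpr hkn).symm) hp.one_lt
        rw [← hfix]
        have : (z ^ k) ^ l ∈ stabilizer H v := pow_mem hev l
        rwa [← pow_mul, ← pow_mod_orderOf, hzo, hl, pow_one] at this
      · rw [hk] at hev
        have hWi : W i = ⊥ := by
          by_contra hne
          exact hnone _ ⟨⟨i, rfl⟩, hne⟩
        rw [← hWi]
        have hw : (a * z ^ (i : ℕ)) ^ p = 1 := by
          rw [(haz.pow_right _).mul_pow, show a ^ p = 1 from congrArg Subtype.val (hE.2 _ ha0), one_mul,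
            ← pow_mul, mul_comm, pow_mul, hzp, one_pow]
        obtain ⟨l, -, hl⟩ := Nat.exists_mul_mod_eq_one_of_coprime
          ((hp.coprime_iff_not_dvd.mpr hj).symm) hp.one_lt
        have h2 : ((a * z ^ (i : ℕ)) ^ j) ^ l = a * z ^ (i : ℕ) := by
          rw [← pow_mul, ← Nat.mod_add_div (j * l) p, hl, pow_add, pow_one, pow_mul, hw, one_pow, mul_one]
        have h3 : ((a * z ^ (i : ℕ)) ^ j) ^ l ∈ stabilizer H v := pow_mem hev l
        rw [h2] at h3
        exact h3
    have : Subsingleton V := ⟨fun x y => by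
      rw [mem_bot.mp (hV (mem_top x)), mem_bot.mp (hV (mem_top y))]⟩
    exact hz1 (eq_of_smul_eq_smul fun v : V => Subsingleton.elim _ _)
  obtain ⟨U0, hU0⟩ := h1n
  have hsub : 𝔅 ⊆ Set.range W := fun U hU => hU.1.imp fun _ h => h.symm
  have hle : 𝔅.ncard ≤ p := (Set.ncard_le_ncard hsub (Set.toFinite _)).trans (by
    rw [← Set.image_univ]
    exact (Set.ncard_image_le).trans (by rw [Set.ncard_univ, Nat.card_fin]))
  let O : Set (Subgroup V) := orbit (P : Subgroup H) U0
  have hOsub : O ⊆ 𝔅 := by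
    rintro _ ⟨π, rfl⟩
    exact hPmem π π.2 U0 hU0
  obtain ⟨k, hk⟩ := P.isPGroup'.card_orbit U0
  rw [Nat.card_coe_set_eq] at hk
  have hk0 : k ≠ 0 := by
    rintro rfl
    rw [pow_zero, Set.ncard_eq_one] at hk
    obtain ⟨U, hU⟩ := hk
    have hfixU : ∀ π ∈ (P : Subgroup H), π • U0 = U0 := fun π hπ => by
      have h1 : π • U0 ∈ orbit (P : Subgroup H) U0 := ⟨⟨π, hπ⟩, rfl⟩
      have h2 : U0 ∈ orbit (P : Subgroup H) U0 := mem_orbit_self U0
      rw [hU, Set.mem_singleton_iff] at h1 h2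
      exact h1.trans h2.symm
    have hinv := smul_mem_of_sylow horb P U0 fun π hπ w hw =>
      hfixU π hπ ▸ smul_mem_pointwise_smul _ _ _ hw
    obtain ⟨⟨i, rfl⟩, hne⟩ := hU0
    have htop := (hirr _ hinv).resolve_left hne
    have h1 : a * z ^ (i : ℕ) = 1 := eq_of_smul_eq_smul fun v : V => by
      rw [one_smul]; exact mem_fixedSub.mp (show v ∈ W i from htop ▸ mem_top v)
    apply haZ
    have h2 : (a0 * z0.1 ^ (i : ℕ) : (P : Subgroup H)) = 1 := Subtype.ext (by push_cast; exact h1)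
    rw [eq_inv_of_mul_eq_one_left h2]
    exact inv_mem (pow_mem z0.2 _)
  have hO : O = 𝔅 := by
    refine Set.eq_of_subset_of_ncard_le hOsub ?_ (Set.toFinite _)
    rw [hk]
    exact hle.trans (Nat.le_self_pow hk0 p)
  have hcard : Nat.card 𝔅 = p := by
    refine le_antisymm (by rw [Nat.card_coe_set_eq]; exact hle) ?_
    rw [Nat.card_coe_set_eq, ← hO, hk]
    exact Nat.le_self_pow hk0 p
  refine no_family hperf hodd horb P 𝔅 hcard ?_ (fun U hU => hU.2) hPmem ?_ ?_
  · rintro _ ⟨⟨i, rfl⟩, -⟩ _ ⟨⟨j, rfl⟩, -⟩ hne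
    exact hWinf i j fun e => hne (by rw [e])
  · intro U hU U' hU'
    rw [← hO] at hU hU'
    obtain ⟨⟨π, hπ⟩, rfl⟩ := hU
    obtain ⟨⟨π', hπ'⟩, rfl⟩ := hU'
    exact ⟨π' * π⁻¹, mul_mem hπ' (inv_mem hπ), by
      change (π' * π⁻¹) • π • U0 = π' • U0; rw [← mul_smul, inv_mul_cancel_right]⟩
  · rintro _ ⟨⟨i, rfl⟩, -⟩ _ ⟨⟨j, rfl⟩, -⟩ hne x hx y hy hx1 hy1 _ ⟨⟨l, rfl⟩, -⟩ hxy
    have hij : i ≠ j := fun e => hne (by rw [e])
    set u := a * z ^ (l : ℕ)
    have h1 : (u • x) * x⁻¹ = y * (u • y)⁻¹ := by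
      have h0 : u • (x * y) = x * y := hxy
      rw [smul_mul'] at h0
      rw [eq_mul_inv_iff_mul_eq, mul_assoc, mul_comm x⁻¹, ← mul_assoc, h0, mul_comm x y, mul_inv_cancel_right]
    have h2 : (u • x) * x⁻¹ ∈ W i ⊓ W j :=
      mem_inf.mpr ⟨(W i).mul_mem (hWcomm i l x hx) ((W i).inv_mem hx),
        h1 ▸ (W j).mul_mem hy ((W j).inv_mem (hWcomm j l y hy))⟩
    rw [hWinf i j hij, mem_bot] at h2
    have hxl : x ∈ W l := mul_inv_eq_one.mp h2
    have hil : i = l := by
      by_contra hh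
      exact hx1 (mem_bot.mp (hWinf i l hh ▸ ⟨hx, hxl⟩))
    rw [h2] at h1
    have hyl : y ∈ W l := (mul_inv_eq_one.mp h1.symm).symm
    have hjl : j = l := by
      by_contra hh
      exact hy1 (mem_bot.mp (hWinf j l hh ▸ ⟨hy, hyl⟩))
    exact hij (hil.trans hjl.symm)

end Cfsg.Agent.Lib.OrbitPower.Basic
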