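import Mathlib

/-!
Schur: a group of odd order with a regular cyclic subgroup of order `p ^ m`, `m ≥ 2`, is imprimitive.
-/

set_option autoImplicit false
set_option linter.unusedSectionVars false
set_option linter.style.haveILetI false

namespace Cfsg.Agent.Lib.OrbitPower.Schur

open Finset

variable {H P : Type*} [Group H] [CommGroup P] (σ : H →* Equiv.Perm P) (ι : P →* H)

/-- Same orbit under the stabilizer of `1`. -/
def Rel (g g' : P) : Prop := ∃ h : H, σ h 1 = 1 ∧ σ h g = g'

theorem Rel.refl (g : P) : Rel σ g g := ⟨1, by simp, by simp⟩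

theorem Rel.symm {g g' : P} (h : Rel σ g g') : Rel σ g' g := by
  obtain ⟨t, t1, tg⟩ := h
  refine ⟨t⁻¹, ?_, ?_⟩
  · rw [map_inv]; exact Equiv.Perm.inv_eq_iff_eq.mpr t1.symm
  · rw [map_inv]; exact Equiv.Perm.inv_eq_iff_eq.mpr tg.symm

theorem Rel.trans {g g' g'' : P} (h : Rel σ g g') (h' : Rel σ g' g'') : Rel σ g g'' := by
  obtain ⟨t, t1, tg⟩ := h
  obtain ⟨u, u1, ug⟩ := h'
  exact ⟨u * t, by rw [map_mul, Equiv.Perm.mul_apply, t1, u1],
    by rw [map_mul, Equiv.Perm.mul_apply, tg, ug]⟩

theorem Rel.eq_one {g : P} (h : Rel σ 1 g) : g = 1 := by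
  obtain ⟨t, t1, tg⟩ := h
  rw [← tg, t1]

variable (hι : ∀ a b : P, σ (ι a) b = a * b)

include hι in
/-- The colouring of pairs `(a, b)` by the orbit of `a⁻¹ b` is invariant. -/
theorem key (h : H) (a b : P) : Rel σ (a⁻¹ * b) ((σ h a)⁻¹ * σ h b) := by
  refine ⟨ι (σ h a)⁻¹ * h * ι a, ?_, ?_⟩
  · simp only [map_mul σ, Equiv.Perm.mul_apply, hι]
    rw [mul_one, inv_mul_cancel]
  · simp only [map_mul σ, Equiv.Perm.mul_apply, hι]
    rw [mul_inv_cancel_left]

variable (hmax : ∀ M : Subgroup H, (∀ h, σ h 1 = 1 → h ∈ M) → (∃ a : P, a ≠ 1 ∧ ι a ∈ M) →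
    ∀ a, ι a ∈ M)

include hι hmax in
/-- An invariant subgroup of `P` is trivial or everything. -/
theorem eq_top_of_invariant (K : Subgroup P) (hK : ∀ k k', Rel σ k k' → k ∈ K → k' ∈ K)
    {k : P} (hk : k ∈ K) (hk1 : k ≠ 1) : K = ⊤ := by
  let M : Subgroup H :=
    { carrier := {h | ∀ a, a ∈ K ↔ σ h a ∈ K}
      one_mem' := fun a => by simp
      mul_mem' := fun {u v} hu hv a => by
        rw [map_mul, Equiv.Perm.mul_apply]; exact (hv a).trans (hu _)
      inv_mem' := fun {u} hu a => by
        rw [hu (σ u⁻¹ a), ← Equiv.Perm.mul_apply, ← map_mul, mul_inv_cancel, map_one,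
          Equiv.Perm.one_apply] }
  have hstab : ∀ h, σ h 1 = 1 → h ∈ M := fun h h1 a =>
    ⟨hK a _ ⟨h, h1, rfl⟩, hK _ a (Rel.symm σ ⟨h, h1, rfl⟩)⟩
  have hkM : ι k ∈ M := fun a => by rw [hι]; exact (K.mul_mem_cancel_left hk).symm
  refine eq_top_iff.mpr fun a _ => ?_
  have := (hmax M hstab ⟨k, hk1, hkM⟩ a 1).mp (one_mem K)
  rwa [hι, mul_one] at this

include hι hmax in
theorem false_of_primitive [Finite H] [Finite P] [IsCyclic P] {p m : ℕ} [Fact p.Prime]
    (hP : Nat.card P = p ^ m) (hm : 2 ≤ m) (hodd : Odd (Nat.card H)) : False := by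
  classical
  haveI : Fintype P := Fintype.ofFinite P
  have hp : p.Prime := Fact.out
  have hp2 : 2 ≤ p := hp.two_le
  have hn : p + p ≤ p ^ m := by
    have h1 : p ^ 2 ≤ p ^ m := Nat.pow_le_pow_right hp.pos hm
    have h2 : 2 * p ≤ p * p := Nat.mul_le_mul_right p hp2
    rw [pow_two] at h1
    omega
  have hX : Nat.card (powMonoidHom p : P →* P).ker = p := by
    rw [IsCyclic.card_powMonoidHom_ker, hP]
    exact Nat.gcd_eq_right (dvd_pow_self p (by omega))
  let O : P → Finset P := fun g => univ.filter fun w => Rel σ g w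
  have hO : ∀ g w, w ∈ O g ↔ Rel σ g w := fun g w => by simp [O]
  have hOeq : ∀ g g', Rel σ g g' → O g = O g' := fun g g' h => by
    ext w; rw [hO, hO]
    exact ⟨fun h' => Rel.trans σ (Rel.symm σ h) h', fun h' => Rel.trans σ h h'⟩
  have hone : ∀ g, g ≠ 1 → (1 : P) ∉ O g := fun g hg h => hg (Rel.eq_one σ (Rel.symm σ ((hO _ _).mp h)))
  -- the group-ring powers of an orbit are invariant
  let u : P → MonoidAlgebra (ZMod p) P := fun g => ∑ x ∈ O g, MonoidAlgebra.single x 1
  have hms : ∀ (f : MonoidAlgebra (ZMod p) P) x w,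
      (f * MonoidAlgebra.single x 1).coeff w = f.coeff (w * x⁻¹) := fun f x w => by
    rw [MonoidAlgebra.coeff_mul_single_eq_coeff_mul (w * x⁻¹) fun m' _ => eq_mul_inv_iff_mul_eq.symm,
      mul_one]
  have hinv : ∀ (g : P) (n : ℕ), ∀ w w', Rel σ w w' → (u g ^ n).coeff w = (u g ^ n).coeff w' := by
    intro g n
    induction n with
    | zero =>
      intro w w' h
      rw [pow_zero, MonoidAlgebra.one_def, MonoidAlgebra.coeff_single]
      rcases eq_or_ne w 1 with rfl | hw
      · rw [Rel.eq_one σ h]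
      · have hw' : w' ≠ 1 := fun e => hw (Rel.eq_one σ (Rel.symm σ (e ▸ h)))
        rw [Finsupp.single_apply, Finsupp.single_apply, if_neg hw.symm, if_neg hw'.symm]
    | succ n ih =>
      intro w w' h
      obtain ⟨t, t1, rfl⟩ := h
      simp only [pow_succ, u, Finset.mul_sum, MonoidAlgebra.coeff_sum, Finsupp.coe_finsetSum,
        Finset.sum_apply, hms]
      refine Finset.sum_nbij' (fun x => (σ t (w * x⁻¹))⁻¹ * σ t w)
        (fun x => (σ t⁻¹ (σ t w * x⁻¹))⁻¹ * w) ?_ ?_ ?_ ?_ ?_
      · intro x hx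
        have := key σ ι hι t (w * x⁻¹) w
        rw [mul_inv_rev, inv_inv, mul_assoc, inv_mul_cancel, mul_one] at this
        exact (hO _ _).mpr (Rel.trans σ ((hO _ _).mp hx) this)
      · intro x hx
        have := key σ ι hι t⁻¹ (σ t w * x⁻¹) (σ t w)
        rw [mul_inv_rev, inv_inv, mul_assoc, inv_mul_cancel, mul_one,
          show σ t⁻¹ (σ t w) = w by rw [← Equiv.Perm.mul_apply, ← map_mul, inv_mul_cancel, map_one, Equiv.Perm.one_apply]] at this
        exact (hO _ _).mpr (Rel.trans σ ((hO _ _).mp hx) this)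
      · intro x _
        simp [mul_comm]
      · intro x _
        simp [mul_comm]
      · intro x _
        refine ih _ _ ⟨t, t1, ?_⟩
        simp [mul_comm]
  haveI : CharP (MonoidAlgebra (ZMod p) P) p :=
    charP_of_injective_algebraMap (algebraMap (ZMod p) (MonoidAlgebra (ZMod p) P)).injective p
  have hpow : ∀ g w, (u g ^ p).coeff w = (((O g).filter fun x => x ^ p = w).card : ZMod p) := by
    intro g w
    simp only [u, sum_pow_char, MonoidAlgebra.single_pow, one_pow, MonoidAlgebra.coeff_sum,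
      MonoidAlgebra.coeff_single, Finsupp.coe_finsetSum, Finset.sum_apply, Finsupp.single_apply,
      Finset.sum_boole]
  have hzero : ∀ g w, w ≠ 1 → (u g ^ p).coeff w = 0 := by
    intro g
    let B : Set P := {w | w ≠ 1 ∧ (u g ^ p).coeff w ≠ 0}
    have hB : ∀ w w', Rel σ w w' → w ∈ B → w' ∈ B := fun w w' h hw =>
      ⟨fun e => hw.1 (Rel.eq_one σ (Rel.symm σ (e ▸ h))), by rw [← hinv g p w w' h]; exact hw.2⟩
    have hclo : ∀ w ∈ Subgroup.closure B, ∀ w', Rel σ w w' → w' ∈ Subgroup.closure B := by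
      intro w hw
      induction hw using Subgroup.closure_induction with
      | mem x hx => exact fun w' h => Subgroup.subset_closure (hB x w' h hx)
      | one => exact fun w' h => by rw [Rel.eq_one σ h]; exact one_mem _
      | mul x y _ _ hx hy =>
        rintro w' ⟨t, t1, rfl⟩
        have h1 := key σ ι hι t x (x * y)
        rw [inv_mul_cancel_left] at h1
        have := mul_mem (hx _ ⟨t, t1, rfl⟩) (hy _ h1)
        rwa [mul_inv_cancel_left] at this
      | inv x _ hx =>
        rintro w' ⟨t, t1, rfl⟩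
        have h1 := key σ ι hι t x⁻¹ 1
        rw [inv_inv, mul_one, t1, mul_one] at h1
        simpa using inv_mem (hx _ h1)
    have hne : Subgroup.closure B ≠ ⊤ := by
      intro e
      have hle : Subgroup.closure B ≤ (powMonoidHom p : P →* P).range := by
        rw [Subgroup.closure_le]
        intro w hw
        obtain ⟨-, hw2⟩ := hw
        rw [hpow] at hw2
        obtain ⟨x, hx⟩ := Finset.card_pos.mp (Nat.pos_of_ne_zero fun h => hw2 (by rw [h, Nat.cast_zero]))
        exact ⟨x, (Finset.mem_filter.mp hx).2⟩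
      rw [e, top_le_iff] at hle
      have h1 := (powMonoidHom p : P →* P).ker.card_mul_index
      rw [Subgroup.index_ker, hle, Subgroup.card_top, hX] at h1
      have h2 : 0 < Nat.card P := Nat.card_pos
      nlinarith
    intro w hw
    by_contra h
    exact hne (eq_top_of_invariant σ ι hι hmax _ (fun k k' h' hk => hclo k hk k' h')
      (Subgroup.subset_closure ⟨hw, h⟩) hw)
  -- outside the subgroup of order `p`, orbits are unions of cosets
  have hcoset : ∀ g, ∀ s ∈ O g, s ^ p ≠ 1 → ∀ x : P, x ^ p = 1 → s * x ∈ O g := by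
    intro g s hs hs1 x hx
    have h0 := hzero g (s ^ p) hs1
    rw [hpow, ZMod.natCast_eq_zero_iff] at h0
    set F := (O g).filter fun z => z ^ p = s ^ p with hF
    let T : Finset P := (univ.filter fun z : P => z ^ p = 1).image fun z => s * z
    have hsub : F ⊆ T := by
      intro z hz
      rw [hF, Finset.mem_filter] at hz
      refine Finset.mem_image.mpr ⟨s⁻¹ * z, ?_, mul_inv_cancel_left s z⟩
      rw [Finset.mem_filter, mul_pow, inv_pow, hz.2, inv_mul_cancel]
      exact ⟨Finset.mem_univ _, rfl⟩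
    have hT : T.card ≤ p := by
      refine Finset.card_image_le.trans (le_of_eq ?_)
      conv_rhs => rw [← hX]
      rw [← Fintype.card_subtype, ← Nat.card_eq_fintype_card]
      rfl
    have hpos : 0 < F.card := Finset.card_pos.mpr ⟨s, Finset.mem_filter.mpr ⟨hs, rfl⟩⟩
    have heq : F = T := Finset.eq_of_subset_of_card_le hsub (hT.trans (Nat.le_of_dvd hpos h0))
    have : s * x ∈ F := heq ▸ Finset.mem_image.mpr ⟨x, Finset.mem_filter.mpr ⟨Finset.mem_univ _, hx⟩, rfl⟩
    exact (Finset.mem_filter.mp this).1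
  let lam : P → P → ℕ := fun g k => ((O g).filter fun w => w * k⁻¹ ∈ O g).card
  have hlam : ∀ g k k', Rel σ k k' → lam g k = lam g k' := by
    rintro g k _ ⟨t, t1, rfl⟩
    have hiff : ∀ w, σ t w ∈ O g ↔ w ∈ O g := fun w => by
      rw [hO, hO]
      exact ⟨fun h => Rel.trans σ h (Rel.symm σ ⟨t, t1, rfl⟩), fun h => Rel.trans σ h ⟨t, t1, rfl⟩⟩
    have hiff2 : ∀ w, σ t w * (σ t k)⁻¹ ∈ O g ↔ w * k⁻¹ ∈ O g := fun w => by
      have := key σ ι hι t k w
      rw [mul_comm k⁻¹, mul_comm (σ t k)⁻¹] at this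
      rw [hO, hO]
      exact ⟨fun h => Rel.trans σ h (Rel.symm σ this), fun h => Rel.trans σ h this⟩
    refine Finset.card_equiv (σ t) fun w => ?_
    simp only [Finset.mem_filter, hiff, hiff2]
  -- every orbit meets the subgroup of order `p`
  have hmeet : ∀ g, g ≠ 1 → ∃ x, Rel σ g x ∧ x ^ p = 1 := by
    intro g hg
    by_contra hno
    push Not at hno
    let K : Subgroup P :=
      { carrier := {k | ∀ w, w ∈ O g ↔ w * k⁻¹ ∈ O g}
        one_mem' := fun w => by simp
        mul_mem' := fun {a b} ha hb w => by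
          rw [mul_inv_rev, ← mul_assoc]; exact (hb w).trans (ha _)
        inv_mem' := fun {a} ha w => by rw [inv_inv, ha (w * a), mul_inv_cancel_right] }
    have hKiff : ∀ k, k ∈ K ↔ lam g k = (O g).card := fun k => by
      rw [Finset.card_filter_eq_iff]
      refine ⟨fun h w hw => (h w).mp hw, fun h w => ⟨h w, fun hw => ?_⟩⟩
      have himg : (O g).image (fun v => v * k⁻¹) = O g :=
        Finset.eq_of_subset_of_card_le (Finset.image_subset_iff.mpr h)
          (le_of_eq (Finset.card_image_of_injective _ (mul_left_injective _)).symm)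
      rw [← himg, Finset.mem_image] at hw
      obtain ⟨v, hv, hvw⟩ := hw
      exact (mul_left_injective _ hvw) ▸ hv
    have hKinv : ∀ k k', Rel σ k k' → k ∈ K → k' ∈ K := fun k k' h hk =>
      (hKiff k').mpr ((hlam g k k' h) ▸ (hKiff k).mp hk)
    have hne1 : ∀ s ∈ O g, s ^ p ≠ 1 := fun s hs h => hno s ((hO _ _).mp hs) h
    obtain ⟨x, hx, hx1⟩ : ∃ x : P, x ^ p = 1 ∧ x ≠ 1 := by
      haveI : Nontrivial (powMonoidHom p : P →* P).ker := by
        rw [← Finite.one_lt_card_iff_nontrivial, hX]; exact hp.one_lt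
      obtain ⟨⟨x, hx⟩, hx1⟩ := exists_ne (1 : (powMonoidHom p : P →* P).ker)
      exact ⟨x, hx, fun e => hx1 (Subtype.ext e)⟩
    have hxK : x ∈ K := (hKiff x).mpr (Finset.card_filter_eq_iff.mpr fun w hw =>
      hcoset g w hw (hne1 w hw) x⁻¹ (by rw [inv_pow, hx, inv_one]))
    have hgK : g ∈ K := (eq_top_of_invariant σ ι hι hmax K hKinv hxK hx1) ▸ Subgroup.mem_top g
    have := (hgK g).mp ((hO _ _).mpr (Rel.refl σ g))
    rw [mul_inv_cancel] at this
    exact hone g hg this
  let U : Finset P → Finset P := fun S => S.filter fun s => s ^ p ≠ 1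
  have hge : ∀ g k, k ≠ 1 → (U (O g)).card ≤ lam g k := by
    intro g k hk
    obtain ⟨x, hx, hx1⟩ := hmeet k hk
    rw [hlam g k x hx]
    refine Finset.card_le_card fun w hw => ?_
    obtain ⟨hw1, hw2⟩ := Finset.mem_filter.mp hw
    exact Finset.mem_filter.mpr ⟨hw1, hcoset g w hw1 hw2 x⁻¹ (by rw [inv_pow, hx1, inv_one])⟩
  have hsum : ∀ g, ∑ k, lam g k = (O g).card * (O g).card := by
    intro g
    simp only [lam, Finset.card_filter]
    rw [Finset.sum_comm]
    rw [Finset.sum_const_nat (m := (O g).card)]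
    intro w _
    rw [Finset.sum_boole]
    simp only [Nat.cast_id]
    refine Finset.card_nbij' (fun k => w * k⁻¹) (fun v => v⁻¹ * w) ?_ ?_ ?_ ?_
    · intro k hk; exact (Finset.mem_filter.mp hk).2
    · intro v hv
      refine Finset.mem_filter.mpr ⟨Finset.mem_univ _, ?_⟩
      rw [mul_inv_rev, inv_inv, mul_inv_cancel_left]
      exact hv
    · intro k _; simp
    · intro v _; simp [mul_comm]
  have hhalf : ∀ g, g ≠ 1 → 2 * (O g).card + 1 ≤ p ^ m := by
    intro g hg
    have hnr : ¬ Rel σ g g⁻¹ := by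
      rintro ⟨t, t1, tg⟩
      set h := ι g * t
      have e1 : σ h 1 = g := by rw [map_mul, Equiv.Perm.mul_apply, t1, hι, mul_one]
      have e2 : σ h g = 1 := by rw [map_mul, Equiv.Perm.mul_apply, tg, hι, mul_inv_cancel]
      have e4 : σ (h * h) 1 = 1 := by rw [map_mul, Equiv.Perm.mul_apply, e1, e2]
      obtain ⟨j, hj⟩ := Odd.of_dvd_nat hodd (orderOf_dvd_natCard h)
      have e3 : h = (h * h) ^ (j + 1) := by
        rw [← pow_two, ← pow_mul, show 2 * (j + 1) = orderOf h + 1 by omega, pow_succ, pow_orderOf_eq_one, one_mul]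
      apply hg
      rw [← e1, e3, map_pow]
      exact Equiv.Perm.pow_apply_eq_self_of_apply_eq_self e4 _
    have hinvO : ∀ w ∈ O g, w⁻¹ ∈ O g⁻¹ := by
      intro w hw
      obtain ⟨t, t1, rfl⟩ := (hO _ _).mp hw
      have := key σ ι hι t g 1
      rw [mul_one, t1, mul_one] at this
      exact (hO _ _).mpr this
    have hdisj : Disjoint (O g) ((O g).image fun w => w⁻¹) := by
      rw [Finset.disjoint_left]
      intro w hw hw'
      obtain ⟨v, hv, rfl⟩ := Finset.mem_image.mp hw'
      exact hnr (Rel.trans σ ((hO _ _).mp hw) (Rel.symm σ ((hO _ _).mp (hinvO v hv))))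
    have hsub : O g ∪ (O g).image (fun w => w⁻¹) ⊆ univ.erase 1 := by
      intro w hw
      refine Finset.mem_erase.mpr ⟨fun e => ?_, Finset.mem_univ _⟩
      subst e
      rcases Finset.mem_union.mp hw with h | h
      · exact hone g hg h
      · obtain ⟨v, hv, hv1⟩ := Finset.mem_image.mp h
        rw [inv_eq_one] at hv1
        exact hone g hg (hv1 ▸ hv)
    have := Finset.card_le_card hsub
    rw [Finset.card_union_of_disjoint hdisj, Finset.card_image_of_injective _ inv_injective,
      Finset.card_erase_of_mem (Finset.mem_univ _), Finset.card_univ, ← Nat.card_eq_fintype_card, hP] at this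
    omega
  -- some orbit is mostly outside the subgroup of order `p`
  obtain ⟨g, hg, hgU⟩ : ∃ g, g ≠ 1 ∧ (O g).card ≤ 2 * (U (O g)).card := by
    by_contra hno
    push Not at hno
    let A : Finset P := (univ.erase 1).filter fun s => s ^ p = 1
    let B : Finset P := (univ.erase 1).filter fun s => ¬ s ^ p = 1
    have hA : A.card + 1 = p := by
      rw [show A = (univ.filter fun s : P => s ^ p = 1).erase 1 from Finset.filter_erase .., 
        Finset.card_erase_add_one (by simp)]
      conv_rhs => rw [← hX]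
      rw [← Fintype.card_subtype, ← Nat.card_eq_fintype_card]
      rfl
    have hB : A.card + B.card + 1 = p ^ m := by
      rw [Finset.card_filter_add_card_filter_not, Finset.card_erase_add_one (Finset.mem_univ _),
        Finset.card_univ, ← Nat.card_eq_fintype_card, hP]
    have hfib : ∀ (q : P → Prop) [DecidablePred q], ∀ S ∈ (univ.erase (1 : P)).image O,
        ((univ.erase 1).filter q).filter (fun s => O s = S) = S.filter q := by
      intro q _ S hS
      obtain ⟨g, hg, rfl⟩ := Finset.mem_image.mp hS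
      ext s
      simp only [Finset.mem_filter, Finset.mem_erase, Finset.mem_univ, and_true]
      constructor
      · rintro ⟨⟨-, hq⟩, e⟩; exact ⟨e ▸ (hO s s).mpr (Rel.refl σ s), hq⟩
      · rintro ⟨hs, hq⟩
        exact ⟨⟨fun e => hone g (Finset.ne_of_mem_erase hg) (e ▸ hs), hq⟩, (hOeq g s ((hO _ _).mp hs)).symm⟩
    have hAs := Finset.card_eq_sum_card_fiberwise (f := O) (s := A) (t := (univ.erase 1).image O)
      fun s hs => Finset.mem_image_of_mem _ (Finset.mem_of_mem_filter _ hs)
    have hBs := Finset.card_eq_sum_card_fiberwise (f := O) (s := B) (t := (univ.erase 1).image O)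
      fun s hs => Finset.mem_image_of_mem _ (Finset.mem_of_mem_filter _ hs)
    have hle : B.card ≤ A.card := by
      rw [hAs, hBs]
      refine Finset.sum_le_sum fun S hS => ?_
      rw [hfib _ S hS, hfib _ S hS]
      obtain ⟨g, hg, rfl⟩ := Finset.mem_image.mp hS
      have h1 := hno g (Finset.ne_of_mem_erase hg)
      have h2 := Finset.card_filter_add_card_filter_not (s := O g) (fun s => s ^ p = 1)
      change 2 * ((O g).filter fun s => ¬ s ^ p = 1).card < _ at h1
      omega
    omega
  have h1 := hhalf g hg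
  have hpos : 0 < (O g).card := Finset.card_pos.mpr ⟨g, (hO _ _).mpr (Rel.refl σ g)⟩
  have hl1 : lam g 1 = (O g).card := by
    simp only [lam, inv_one, mul_one]
    rw [Finset.filter_true_of_mem fun w hw => hw]
  have h2 : (O g).card + (p ^ m - 1) * (U (O g)).card ≤ (O g).card * (O g).card := by
    rw [← hsum g, ← Finset.add_sum_erase _ _ (Finset.mem_univ (1 : P)), hl1]
    refine Nat.add_le_add_left ?_ _
    have := Finset.card_nsmul_le_sum (univ.erase (1 : P)) (lam g) _ fun k hk => hge g k (Finset.ne_of_mem_erase hk)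
    rwa [Finset.card_erase_of_mem (Finset.mem_univ _), Finset.card_univ, ← Nat.card_eq_fintype_card, hP,
      smul_eq_mul] at this
  obtain ⟨c, hc⟩ : ∃ c, p ^ m = c + 1 := ⟨p ^ m - 1, by omega⟩
  rw [hc, Nat.add_sub_cancel] at h2
  have h3 := Nat.mul_le_mul (show 2 * (O g).card ≤ c by omega) (le_refl (U (O g)).card)
  have h4 := Nat.mul_le_mul (le_refl (O g).card) hgU
  nlinarith

end Cfsg.Agent.Lib.OrbitPower.Schur
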